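import Cfsg.Agent.H60.HalfPsl
import Cfsg.Agent.H488.PsuTwo
import Cfsg.Agent.ClassicalGeometry.UnitTransv
import Cfsg.Agent.H57.TTRee
import Cfsg.Agent.H57.TTOut
import Cfsg.Agent.S2127
import Mathlib.GroupTheory.GroupAction.Quotient
import Mathlib.GroupTheory.GroupAction.MultipleTransitivity
import Mathlib.Tactic
import Mathlib.Data.Fintype.CardEmbedding
import Cfsg.Agent.H384.AsOut
import Cfsg.Agent.H970.TwoSporBase_m3
import Cfsg.Agent.S0366
import Cfsg.Agent.S2062
import Cfsg.Agent.H603.SporElim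
import Cfsg.Agent.H88.RkRee_m3
import Cfsg.Agent.H891.Gen.LinRows
import Cfsg.Agent.H488.ThreeHalf
import Cfsg.Agent.SporadicA.M11Facts2
import Cfsg.Agent.SectRankFour.AutM11
import Cfsg.Agent.UGT.End.MEleven
import Cfsg.Agent.H904.HSIso
import Cfsg.Agent.CpAutON.Gen
import Cfsg.Agent.H488.M24Action
import Cfsg.Agent.H660.SporPrimeIndex
import Cfsg.Agent.H251.Small.Num
import Cfsg.Agent.S2061
import Cfsg.Agent.S2071
import Cfsg.Agent.FastGrp
import Cfsg.Agent.Prune
set_option linter.all false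

section
prune_inst 0x7ffcecf8eeb8addfdfff7e7fa7d8cffc39901fffa6dff943bfe0a1ff039f030201c16bad0de010fe0ea2421400b87843f9feceffe06bdc7ffffd5ff45ffbec0fb5e7bd0851968c340fbc0ff603f0778e7f3fffffffffffffffffffffffffffbeffbdffbfffff

-- part: H621/Half/Psu_mg
section
prune_inst 0x31004100052200000000058211000020240000900000040084a001c20200c0a009002000080000054a08010000010020120000804000000000000000002004010000000011000000000096000000000000000000000000000000000000000004200400000
set_option linter.all false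
open scoped Cfsg.Agent.FastGrp

-- part: H621/Half/Clash
section
/-!
# `(2+1/2)`-transitive groups: short and long orbits of the two-point stabiliser of the socle (helper621)
-/

set_option autoImplicit false

namespace Cfsg.Agent.H621.HalfT

open MulAction Cfsg.Agent.H384.TwoTrans Cfsg.Agent.H386.HalfTwo Cfsg.Agent.H488.ThreeHalf

universe u v

variable {G : Type u} {Ω : Type v} [Group G] [MulAction G Ω] {T : Subgroup G} {m : ℕ}

/-- the two-point stabiliser of `T` as a subgroup of `G` -/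
def NN (T : Subgroup G) (a b : Ω) : Subgroup G := T ⊓ GG G a b

theorem NN_le (T : Subgroup G) (a b : Ω) : NN T a b ≤ GG G a b := inf_le_right

theorem NN_conj (hT : T.Normal) {a b : Ω} {g : G} (hg : g ∈ GG G a b) (n : G) :
    n ∈ NN T a b ↔ g * n * g⁻¹ ∈ NN T a b := by
  have key : ∀ g ∈ GG G a b, ∀ n ∈ NN T a b, g * n * g⁻¹ ∈ NN T a b := by
    intro g hg n hn
    exact ⟨hT.conj_mem n hn.1 g, (GG G a b).mul_mem ((GG G a b).mul_mem hg hn.2) ((GG G a b).inv_mem hg)⟩
  refine ⟨key g hg n, fun h => ?_⟩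
  have := key g⁻¹ ((GG G a b).inv_mem hg) _ h
  have h2 : g⁻¹ * (g * n * g⁻¹) * g⁻¹⁻¹ = n := by group
  rwa [h2] at this

theorem card_NN (T : Subgroup G) (a b : Ω) :
    Nat.card (NN T a b) = Nat.card ↥(stabilizer T a ⊓ stabilizer T b) := by
  refine Nat.card_congr ⟨fun x => ⟨⟨x.1, x.2.1⟩, ?_⟩, fun x => ⟨x.1.1, ?_⟩, fun _ => rfl, fun _ => rfl⟩
  · have h := mem_GG.1 x.2.2
    exact ⟨h.1, h.2⟩
  · exact ⟨x.1.2, mem_GG.2 ⟨x.2.1, x.2.2⟩⟩

/-- the invariant set argument -/
theorem clash (A : AS G Ω T) (H : Half G Ω m) {a b : Ω} (hab : a ≠ b) {L : Set Ω} (hne : L.Nonempty)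
    (hL : ∀ x ∈ L, x ≠ a ∧ x ≠ b) (hinv : ∀ t : T, t • a = a → t • b = b → ∀ x ∈ L, t • x ∈ L)
    (hreg : ∀ x, x ≠ a → x ≠ b → x ∉ L → ∀ t : T, t • a = a → t • b = b → t • x = x → t = 1)
    (hcard : L.ncard < Nat.card ↥(stabilizer T a ⊓ stabilizer T b))
    (hc : ∃ c : Ω, c ≠ a ∧ c ≠ b ∧ c ∉ L) : False := by
  have := A.finG
  have := A.finΩ
  have := A.faithful
  have hT := A.normal
  rw [← card_NN] at hcard
  have hlong : ∀ x, x ≠ a → x ≠ b → x ∉ L → Nat.card (orbit (NN T a b) x) = Nat.card (NN T a b) := by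
    intro x hxa hxb hxL
    have h1 : stabilizer (NN T a b) x = ⊥ := by
      rw [eq_bot_iff]
      intro t ht
      have h2 := mem_GG.1 t.2.2
      have h3 := hreg x hxa hxb hxL ⟨t.1, t.2.1⟩ h2.1 h2.2 ht
      exact Subtype.ext (congrArg (fun z : T => (z : G)) h3)
    have h2 := (stabilizer (NN T a b) x).index_mul_card
    rw [h1, Subgroup.card_bot, mul_one, ← h1, MulAction.index_stabilizer] at h2
    rwa [Nat.card_coe_set_eq]
  have hshort : ∀ x ∈ L, Nat.card (orbit (NN T a b) x) ≤ L.ncard := by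
    intro x hx
    rw [← Nat.card_coe_set_eq]
    refine Nat.card_mono (Set.toFinite _) ?_
    rintro _ ⟨t, rfl⟩
    have h2 := mem_GG.1 t.2.2
    exact hinv ⟨t.1, t.2.1⟩ h2.1 h2.2 x hx
  have hd : m ∣ L.ncard := by
    refine H.dvd_ncard hab L hL ?_
    intro g hga hgb x hx
    by_contra hcon
    have hgm : g ∈ GG G a b := mem_GG.2 ⟨hga, hgb⟩
    have h1 := card_orbit_smul (N := NN T a b) (g := g) (NN_conj hT hgm) x
    have h2 := hlong (g • x) (ne_of_smul hga (hL x hx).1) (ne_of_smul hgb (hL x hx).2) hcon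
    have h3 := hshort x hx
    omega
  obtain ⟨c, hca, hcb, hcL⟩ := hc
  have h1 := H.le_of_le hab hca hcb (NN_le T a b)
  rw [hlong c hca hcb hcL] at h1
  have h2 : 0 < L.ncard := (Set.ncard_pos).2 hne
  have h3 := Nat.le_of_dvd h2 hd
  omega

end Cfsg.Agent.H621.HalfT
end

-- part: H621/Half/PsuPt
section
/-!
# The points of the 2-transitive action of `PSU₃(q)` as isotropic vectors (helper621)
-/

set_option autoImplicit false
set_option linter.unusedSectionVars false

namespace Cfsg.Agent.H621.HalfT.Psu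

open MulAction Matrix Cfsg Cfsg.Agent.H96.TISylow Cfsg.Agent.LieClassical.HermBasic Cfsg.Agent.H488.PsuTwo

variable {T : Type*} [Group T] [Finite T] {F : Type*} [Field F] [Fintype F] {q : ℕ}

/-- the point `a` belongs to the isotropic vector `v` -/
structure At (e : T ≃* PSU 3 F q) {Ω : Type*} [MulAction T Ω] (v : Fin 3 → F) (a : Ω) : Prop where
  ne : v ≠ 0
  iso : hermForm 3 F q v v = 0
  iff : ∀ g : SU 3 F q, pi e g • a = a ↔ ∃ c : F, g.1.1 *ᵥ v = c • v

theorem mv (x y : SU 3 F q) (z : Fin 3 → F) : (x * y).1.1 *ᵥ z = x.1.1 *ᵥ (y.1.1 *ᵥ z) := by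
  rw [mulVec_mulVec]; rfl

theorem mv_inv {x : SU 3 F q} {z z' : Fin 3 → F} (hx : x.1.1 *ᵥ z = z') : x⁻¹.1.1 *ᵥ z' = z := by
  rw [← hx, ← mv, inv_mul_cancel]
  exact one_mulVec z

theorem mv_ne {x : SU 3 F q} {z : Fin 3 → F} (hz : z ≠ 0) : x.1.1 *ᵥ z ≠ 0 := by
  intro h
  apply hz
  have h1 := mv_inv h
  rw [mulVec_zero] at h1
  exact h1.symm

theorem eig_ne {x : SU 3 F q} {z : Fin 3 → F} (hz : z ≠ 0) {c : F} (h : x.1.1 *ᵥ z = c • z) : c ≠ 0 := by
  rintro rfl
  rw [zero_smul] at h
  exact mv_ne hz h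

theorem eig_inv {x : SU 3 F q} {z : Fin 3 → F} (hz : z ≠ 0) {c : F} (h : x.1.1 *ᵥ z = c • z) :
    x⁻¹.1.1 *ᵥ z = c⁻¹ • z := by
  have h1 := mv_inv h
  rw [mulVec_smul] at h1
  rw [← h1, smul_smul, inv_mul_cancel₀ (eig_ne hz h), one_smul, h1]

theorem vstab_norm {v : Fin 3 → F} (hv : v ≠ 0) {g : SU 3 F q} {c : F} (h : g.1.1 *ᵥ v = c • v) {u : SU 3 F q}
    (hu : u ∈ vstab (SU 3 F q) v) : g * u * g⁻¹ ∈ vstab (SU 3 F q) v := by
  rw [mem_vstab] at hu ⊢
  rw [mv, mv, eig_inv hv h, mulVec_smul, hu, mulVec_smul, h, smul_smul, inv_mul_cancel₀ (eig_ne hv h), one_smul]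

/-- two isotropic vectors which are not proportional are not orthogonal -/
theorem herm_ne {v w : Fin 3 → F} (hF : Fintype.card F = q ^ 2) (hv : v ≠ 0) (hvv : hermForm 3 F q v v = 0)
    (hww : hermForm 3 F q w w = 0) (h : ¬ ∃ c : F, w = c • v) : hermForm 3 F q w v ≠ 0 :=
  fun h0 => h (prop_of_isotropic hF hv hvv hww h0)

variable {p : ℕ} [hp : Fact p.Prime] [CharP F p]

/-- `vstab v ≠ ⊥` -/
theorem vstab_ne (hF : Fintype.card F = q ^ 2) {v : Fin 3 → F} (hv : v ≠ 0) (hvv : hermForm 3 F q v v = 0) :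
    vstab (SU 3 F q) v ≠ ⊥ := by
  obtain ⟨c, hc0, hc⟩ := exists_trace_zero_ne hF
  obtain ⟨x, hx⟩ := exists_herm_ne_zero hF hv
  intro h
  have h1 : ClassicalGeometry.UnitTransv.utv hF v c hvv hc ∈ vstab (SU 3 F q) v := by
    rw [mem_vstab]
    have := ClassicalGeometry.UnitTransv.act_utv hF hvv hc v
    rw [hvv, mul_zero, zero_smul, add_zero] at this
    exact this
  rw [h, Subgroup.mem_bot] at h1
  have h2 := ClassicalGeometry.UnitTransv.act_utv hF hvv hc x
  rw [h1] at h2
  have h3 : x = x + (c * hermForm 3 F q x v) • v := by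
    refine Eq.trans ?_ h2
    exact (one_mulVec x).symm
  have h4 : (c * hermForm 3 F q x v) • v = 0 := by
    have := congrArg (fun y => y - x) h3
    simpa only [_root_.smul_eq_zero, _root_.mul_eq_zero, _root_.add_sub_cancel_left, _root_.sub_self] using this.symm
  rcases smul_eq_zero.1 h4 with h5 | h5
  · rcases mul_eq_zero.1 h5 with h6 | h6
    · exact hc0 h6
    · rw [herm_swap hF, pow_q_eq_zero hF] at h6
      exact hx h6
  · exact hv h5

/-- an element fixing an isotropic vector and the line of another one fixes the other one; so `vstab v` moves the lines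
of the other isotropic vectors -/
theorem prop_of_vstab (hF : Fintype.card F = q ^ 2) {v w : Fin 3 → F} (hv : v ≠ 0) (hvv : hermForm 3 F q v v = 0)
    (hw : w ≠ 0) (hww : hermForm 3 F q w w = 0)
    (h : ∀ u ∈ vstab (SU 3 F q) v, ∃ c : F, u.1.1 *ᵥ w = c • w) : ∃ c : F, w = c • v := by
  by_contra hcon
  have h0 := herm_ne hF hv hvv hww hcon
  apply vstab_ne hF hv hvv
  rw [eq_bot_iff]
  intro u hu
  obtain ⟨c, hc⟩ := h u hu
  rw [Subgroup.mem_bot]
  rw [mem_vstab] at hu
  have h1 : hermForm 3 F q (u.1.1 *ᵥ w) (u.1.1 *ᵥ v) = hermForm 3 F q w v := herm_map u.2 w v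
  rw [hc, hu, herm_smul_left] at h1
  have h2 : c = 1 := by
    have : (c - 1) * hermForm 3 F q w v = 0 := by rw [sub_mul, h1, one_mul, sub_self]
    rcases mul_eq_zero.1 this with h3 | h3
    · exact sub_eq_zero.1 h3
    · exact absurd h3 h0
  rw [h2, one_smul] at hc
  exact Subtype.ext (su_three_eq_one hF u.2 hw hv hww hvv hc hu h0)

theorem sylow_eq {P Q : Sylow p T} (h : Subgroup.normalizer ((P : Subgroup T) : Set T) =
    Subgroup.normalizer ((Q : Subgroup T) : Set T)) : P = Q := by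
  have h1 : (P : Subgroup T) ≤ Subgroup.normalizer ((Q : Subgroup T) : Set T) := h ▸ Subgroup.le_normalizer
  have h2 := (inf_eq_left.2 h1).symm.trans (IsPGroup.inf_normalizer_sylow P.2 Q)
  apply Sylow.ext
  exact (P.3 Q.2 (inf_eq_left.1 h2.symm)).symm

/-- lifts of the Sylow normaliser normalise -/
theorem lift_norm (hF : Fintype.card F = q ^ 2) (e : T ≃* PSU 3 F q) (R : Sylow p (SU 3 F q)) (g : SU 3 F q)
    (hg : pi e g ∈ Subgroup.normalizer (((R.mapSurjective (pi_surj e) : Sylow p T) : Subgroup T) : Set T)) :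
    ∀ u ∈ (R : Subgroup (SU 3 F q)), g * u * g⁻¹ ∈ (R : Subgroup (SU 3 F q)) := by
  intro u hu
  have hfin : Finite (SU 3 F q) := inferInstance
  have h1 : pi e (g * u * g⁻¹) ∈ ((R.mapSurjective (pi_surj e) : Sylow p T) : Subgroup T) := by
    rw [map_mul, map_mul, map_inv]
    apply (Subgroup.mem_normalizer_iff.1 hg _).1
    rw [Sylow.coe_mapSurjective]
    exact ⟨u, hu, rfl⟩
  rw [Sylow.coe_mapSurjective] at h1
  obtain ⟨w, hw, hwg⟩ := h1
  obtain ⟨k, hk⟩ := R.2 ⟨u, hu⟩
  obtain ⟨m, hm⟩ := R.2 ⟨w, hw⟩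
  have hk' : u ^ p ^ k = 1 := congrArg Subtype.val hk
  have h2 : (g * u * g⁻¹) ^ p ^ k = 1 := by rw [conj_pow, hk', mul_one, mul_inv_cancel]
  rw [← eq_of_pi (p := p) hF hwg (congrArg Subtype.val hm) h2]
  exact hw

variable {Ω : Type*} [Finite Ω] [MulAction T Ω]

/-- a point whose stabiliser is the normaliser of a Sylow subgroup `vstab v` -/
theorem at_of_sylow (hF : Fintype.card F = q ^ 2) (e : T ≃* PSU 3 F q) {a : Ω} {R : Sylow p (SU 3 F q)}
    {v : Fin 3 → F} (hv : v ≠ 0) (hvv : hermForm 3 F q v v = 0) (hRv : (R : Subgroup (SU 3 F q)) = vstab (SU 3 F q) v)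
    (ha : stabilizer T a =
      Subgroup.normalizer (((R.mapSurjective (pi_surj e) : Sylow p T) : Subgroup T) : Set T)) : At e v a := by
  have hfin : Finite (SU 3 F q) := inferInstance
  refine ⟨hv, hvv, fun g => ?_⟩
  rw [← MulAction.mem_stabilizer_iff, ha]
  constructor
  · intro h
    refine normalizer_fix hF hv hvv (vstab_ne hF hv hvv) ?_
    have := lift_norm hF e R g h
    rwa [hRv] at this
  · rintro ⟨c, hc⟩
    have hci := eig_inv hv hc
    rw [Subgroup.mem_normalizer_iff]
    have key : ∀ (g : SU 3 F q) (c : F), g.1.1 *ᵥ v = c • v → ∀ n, n ∈ (R : Subgroup (SU 3 F q)).map (pi e) →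
        pi e g * n * (pi e g)⁻¹ ∈ (R : Subgroup (SU 3 F q)).map (pi e) := by
      rintro g c hc _ ⟨u, hu, rfl⟩
      refine ⟨g * u * g⁻¹, ?_, by rw [map_mul, map_mul, map_inv]⟩
      rw [hRv] at hu ⊢
      exact vstab_norm hv hc hu
    intro n
    refine ⟨fun hn => ?_, fun hn => ?_⟩
    · rw [Sylow.coe_mapSurjective] at hn ⊢
      exact key g c hc n hn
    · rw [Sylow.coe_mapSurjective] at hn ⊢
      have h1 := key g⁻¹ _ hci _ hn
      rw [map_inv] at h1
      have h2 : (pi e g)⁻¹ * (pi e g * n * (pi e g)⁻¹) * (pi e g)⁻¹⁻¹ = n := by group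
      rwa [h2] at h1

/-- a point whose stabiliser is a Sylow normaliser has a vector -/
theorem exists_at (hF : Fintype.card F = q ^ 2) (hq : 2 ≤ q) (e : T ≃* PSU 3 F q) (hs : IsSimpleGroup T) {a : Ω}
    {P : Sylow p T} (ha : stabilizer T a = Subgroup.normalizer ((P : Subgroup T) : Set T)) : ∃ v, At e v a := by
  have hfin : Finite (SU 3 F q) := inferInstance
  obtain ⟨-, -, hbot⟩ := card_sylow (p := p) hF hq e hs
  obtain ⟨R, rfl⟩ := Sylow.mapSurjective_surjective (pi_surj e) p P
  have hR : (R : Subgroup (SU 3 F q)) ≠ ⊥ := by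
    intro h
    apply hbot (R.mapSurjective (pi_surj e))
    rw [Sylow.coe_mapSurjective, h, Subgroup.map_bot]
  obtain ⟨v, hv, hvv, hRv⟩ := exists_vec hF R hR
  exact ⟨v, at_of_sylow hF e hv hvv hRv ha⟩

/-- the points are the Sylow subgroups -/
theorem exists_sylow [IsPretransitive T Ω] (hF : Fintype.card F = q ^ 2) (hq : 2 ≤ q) (e : T ≃* PSU 3 F q)
    (hs : IsSimpleGroup T) (hn : Nat.card Ω = q ^ 3 + 1) :
    ∃ f : Sylow p T → Ω, Function.Bijective f ∧
      ∀ P : Sylow p T, stabilizer T (f P) = Subgroup.normalizer ((P : Subgroup T) : Set T) := by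
  choose f hf using exists_point (p := p) (Ω := Ω) hF hq e hs hn
  refine ⟨f, ?_, hf⟩
  have hinj : Function.Injective f := by
    intro P Q h
    apply sylow_eq
    rw [← hf, ← hf, h]
  obtain ⟨-, hN, -⟩ := card_sylow (p := p) hF hq e hs
  exact hinj.bijective_of_nat_card_le (by rw [hn, hN])

/-- every point has a vector -/
theorem exists_at' [IsPretransitive T Ω] (hF : Fintype.card F = q ^ 2) (hq : 2 ≤ q) (e : T ≃* PSU 3 F q)
    (hs : IsSimpleGroup T) (hn : Nat.card Ω = q ^ 3 + 1) (x : Ω) : ∃ v, At e v x := by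
  obtain ⟨p, hch⟩ := CharP.exists F
  have hp : Fact p.Prime := ⟨CharP.char_is_prime F p⟩
  obtain ⟨f, hf, hst⟩ := exists_sylow (p := p) (Ω := Ω) hF hq e hs hn
  obtain ⟨P, rfl⟩ := hf.2 x
  exact exists_at hF hq e hs (hst P)

/-- the point is determined by its stabiliser -/
theorem eq_of_stab [IsPretransitive T Ω] (hF : Fintype.card F = q ^ 2) (hq : 2 ≤ q) (e : T ≃* PSU 3 F q)
    (hs : IsSimpleGroup T) (hn : Nat.card Ω = q ^ 3 + 1) {x y : Ω} (h : stabilizer T x = stabilizer T y) : x = y := by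
  obtain ⟨p, hch⟩ := CharP.exists F
  have hp : Fact p.Prime := ⟨CharP.char_is_prime F p⟩
  obtain ⟨f, hf, hst⟩ := exists_sylow (p := p) (Ω := Ω) hF hq e hs hn
  obtain ⟨P, rfl⟩ := hf.2 x
  obtain ⟨Q, rfl⟩ := hf.2 y
  rw [hst, hst] at h
  rw [sylow_eq h]

/-- the vector determines the point -/
theorem At.unique [IsPretransitive T Ω] {e : T ≃* PSU 3 F q} {v : Fin 3 → F} {x y : Ω} (hx : At e v x) (hy : At e v y)
    (hF : Fintype.card F = q ^ 2) (hq : 2 ≤ q) (hs : IsSimpleGroup T) (hn : Nat.card Ω = q ^ 3 + 1) : x = y := by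
  apply eq_of_stab hF hq e hs hn
  ext t
  obtain ⟨g, rfl⟩ := pi_surj e t
  rw [MulAction.mem_stabilizer_iff, MulAction.mem_stabilizer_iff, hx.iff, hy.iff]

omit [Finite Ω] in
theorem At.smul {e : T ≃* PSU 3 F q} {v : Fin 3 → F} {x : Ω} (hx : At e v x) {c : F} (hc : c ≠ 0) :
    At e (c • v) x := by
  refine ⟨smul_ne_zero hc hx.ne, ?_, fun g => ?_⟩
  · rw [herm_smul_left, herm_smul_right, hx.iso, mul_zero, mul_zero]
  · rw [hx.iff]
    constructor
    · rintro ⟨d, hd⟩
      exact ⟨d, by rw [mulVec_smul, hd, smul_comm]⟩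
    · rintro ⟨d, hd⟩
      refine ⟨d, ?_⟩
      rw [mulVec_smul, smul_comm] at hd
      exact smul_right_injective _ hc hd

omit [Finite Ω] in
theorem At.act {e : T ≃* PSU 3 F q} {v : Fin 3 → F} {x : Ω} (hx : At e v x) (g : SU 3 F q) :
    At e (g.1.1 *ᵥ v) (pi e g • x) := by
  refine ⟨mv_ne hx.ne, by rw [herm_map g.2, hx.iso], fun h => ?_⟩
  have h1 : pi e h • pi e g • x = pi e g • x ↔ pi e (g⁻¹ * h * g) • x = x := by
    rw [map_mul, map_mul, map_inv, mul_smul, mul_smul, inv_smul_eq_iff]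
  rw [h1, hx.iff]
  constructor
  · rintro ⟨c, hc⟩
    refine ⟨c, ?_⟩
    rw [mv, mv] at hc
    have h2 := congrArg (fun z => g.1.1 *ᵥ z) hc
    simp only [mulVec_smul] at h2
    have h3 : g.1.1 *ᵥ (g⁻¹.1.1 *ᵥ (h.1.1 *ᵥ (g.1.1 *ᵥ v))) = h.1.1 *ᵥ (g.1.1 *ᵥ v) := by
      rw [← mv g g⁻¹, mul_inv_cancel]
      exact one_mulVec _
    exact h3.symm.trans h2
  · rintro ⟨c, hc⟩
    refine ⟨c, ?_⟩
    rw [mv, mv, hc, mulVec_smul]
    congr 1
    exact mv_inv rfl

/-- different vectors of the same point are proportional -/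
theorem At.prop (hF : Fintype.card F = q ^ 2) {e : T ≃* PSU 3 F q} {v w : Fin 3 → F} {x : Ω} (hv : At e v x)
    (hw : At e w x) : ∃ c : F, w = c • v := by
  refine prop_of_vstab hF hv.ne hv.iso hw.ne hw.iso ?_
  intro u hu
  rw [← hw.iff, hv.iff]
  exact ⟨1, by rw [one_smul]; exact mem_vstab.1 hu⟩

/-- every isotropic vector has a point -/
theorem exists_of_vec [IsPretransitive T Ω] (hF : Fintype.card F = q ^ 2) (hq : 2 ≤ q) (e : T ≃* PSU 3 F q)
    (hs : IsSimpleGroup T) (hn : Nat.card Ω = q ^ 3 + 1) {u : Fin 3 → F} (hu : u ≠ 0)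
    (huu : hermForm 3 F q u u = 0) : ∃ x : Ω, At e u x := by
  obtain ⟨p, hch⟩ := CharP.exists F
  have hp : Fact p.Prime := ⟨CharP.char_is_prime F p⟩
  have hfin : Finite (SU 3 F q) := inferInstance
  obtain ⟨f, hf, hst⟩ := exists_sylow (p := p) (Ω := Ω) hF hq e hs hn
  obtain ⟨R, hR⟩ := (isPGroup_vstab_three (p := p) hF hu huu).exists_le_sylow
  have hR1 : (R : Subgroup (SU 3 F q)) ≠ ⊥ := by
    intro h
    rw [h, le_bot_iff] at hR
    exact vstab_ne hF hu huu hR
  obtain ⟨v, hv, hvv, hRv⟩ := exists_vec hF R hR1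
  have h1 : At e v (f (R.mapSurjective (pi_surj e))) := at_of_sylow hF e hv hvv hRv (hst _)
  refine ⟨f (R.mapSurjective (pi_surj e)), ?_⟩
  obtain ⟨c, hc⟩ : ∃ c : F, v = c • u := by
    refine prop_of_vstab hF hu huu hv hvv ?_
    intro g hg
    refine ⟨1, ?_⟩
    have h2 := hR hg
    rw [hRv, mem_vstab] at h2
    rw [one_smul, h2]
  have hc0 : c ≠ 0 := by
    rintro rfl
    rw [zero_smul] at hc
    exact hv hc
  have h3 : u = c⁻¹ • v := by rw [hc, smul_smul, inv_mul_cancel₀ hc0, one_smul]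
  rw [h3]
  exact h1.smul (inv_ne_zero hc0)

end Cfsg.Agent.H621.HalfT.Psu
end

-- part: H621/Half/Psu
section
/-!
# `(2+1/2)`-transitive groups: the row `PSU₃(q)` (task 1263, helper621)
-/

set_option autoImplicit false
set_option linter.unusedSectionVars false

namespace Cfsg.Agent.H621.HalfT

open MulAction Matrix Cfsg Cfsg.Agent.H96.TISylow Cfsg.Agent.LieClassical.HermBasic Cfsg.Agent.H488.PsuTwo
open Cfsg.Agent.H384.TwoTrans Cfsg.Agent.H386.HalfTwo Psu

universe u v

variable {F : Type} [Field F] [Fintype F] {q : ℕ}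

/-- an element of `SU₃(q)` with three eigenvectors in general position, the first, second and third isotropic, is a
scalar -/
theorem scalar_of_three (hF : Fintype.card F = q ^ 2) {g : SU 3 F q} {v w u : Fin 3 → F} {α β γ : F}
    (hvw : hermForm 3 F q v w ≠ 0) (hvu : hermForm 3 F q v u ≠ 0) (hwu : hermForm 3 F q w u ≠ 0)
    (h1 : g.1.1 *ᵥ v = α • v) (h2 : g.1.1 *ᵥ w = β • w) (h3 : g.1.1 *ᵥ u = γ • u) : α = β ∧ α = γ := by
  have key : ∀ {x y : Fin 3 → F} {a b : F}, hermForm 3 F q x y ≠ 0 → g.1.1 *ᵥ x = a • x → g.1.1 *ᵥ y = b • y →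
      a * b ^ q = 1 := by
    intro x y a b hxy hx hy
    have h : hermForm 3 F q (g.1.1 *ᵥ x) (g.1.1 *ᵥ y) = hermForm 3 F q x y := herm_map g.2 x y
    rw [hx, hy, herm_smul_left, herm_smul_right] at h
    have h' : (a * b ^ q - 1) * hermForm 3 F q x y = 0 := by
      rw [sub_mul, one_mul, mul_assoc, h, sub_self]
    rcases mul_eq_zero.1 h' with h'' | h''
    · exact sub_eq_zero.1 h''
    · exact absurd h'' hxy
  have e1 := key hvw h1 h2
  have e2 := key hvu h1 h3
  have e3 := key hwu h2 h3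
  have hγ : γ ^ q ≠ 0 := fun h => by rw [h, mul_zero] at e2; exact zero_ne_one e2
  have hα : α ≠ 0 := fun h => by rw [h, zero_mul] at e2; exact zero_ne_one e2
  refine ⟨mul_right_cancel₀ hγ (e2.trans e3.symm), ?_⟩
  have h4 : α * β ^ q = α * γ ^ q := e1.trans e2.symm
  have h5 := (pow_q_inj hF).1 (mul_left_cancel₀ hα h4)
  rw [← h5]
  exact mul_right_cancel₀ hγ (e2.trans e3.symm)

/-- the vectors of the line `⟨v, w⟩` -/
theorem card_roots {h k : F} (hk : k ≠ 0) (hq : 2 ≤ q) : {z : F | z ≠ 0 ∧ z ^ q * h + z * k = 0}.ncard ≤ q - 1 := by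
  classical
  by_cases hh : h = 0
  · have : {z : F | z ≠ 0 ∧ z ^ q * h + z * k = 0} = ∅ := by
      ext z
      simp only [Set.mem_ofPred_eq, Set.mem_empty_iff_false, iff_false, not_and]
      intro hz h1
      rw [hh, mul_zero, zero_add] at h1
      rcases mul_eq_zero.1 h1 with h2 | h2
      · exact hz h2
      · exact hk h2
    rw [this, Set.ncard_empty]
    exact Nat.zero_le _
  let P : Polynomial F := Polynomial.X ^ (q - 1) - Polynomial.C (-(k / h))
  have hP : P ≠ 0 := Polynomial.X_pow_sub_C_ne_zero (by omega) _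
  have hsub : {z : F | z ≠ 0 ∧ z ^ q * h + z * k = 0} ⊆ ↑P.roots.toFinset := by
    rintro z ⟨hz, h1⟩
    rw [Finset.mem_coe, Multiset.mem_toFinset, Polynomial.mem_roots hP]
    show Polynomial.eval z P = 0
    simp only [P, Polynomial.eval_sub, Polynomial.eval_pow, Polynomial.eval_X, Polynomial.eval_C]
    have h2 : z ^ q = z ^ (q - 1) * z := by
      rw [← pow_succ]
      congr 1
      omega
    rw [h2] at h1
    have h3 : z * (z ^ (q - 1) * h + k) = 0 := by linear_combination h1
    rcases mul_eq_zero.1 h3 with h4 | h4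
    · exact absurd h4 hz
    · field_simp
      linear_combination h4
  calc {z : F | z ≠ 0 ∧ z ^ q * h + z * k = 0}.ncard ≤ (↑P.roots.toFinset : Set F).ncard :=
        Set.ncard_le_ncard hsub (Finset.finite_toSet _)
    _ = P.roots.toFinset.card := Set.ncard_coe_finset _
    _ ≤ P.natDegree := P.roots.toFinset_card_le.trans (P.card_roots')
    _ = q - 1 := Polynomial.natDegree_X_pow_sub_C

variable {G : Type u} {Ω : Type v} [Group G] [MulAction G Ω] {T : Subgroup G} {m : ℕ}

/-- **Row `PSU₃(q)`**. -/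
theorem psu (A : AS G Ω T) (H : Half G Ω m) (hq : 3 ≤ q) (hF : Fintype.card F = q ^ 2)
    (e : Nonempty (T ≃* Cfsg.PSU 3 F q)) (hn : Nat.card Ω = q ^ 3 + 1) : False := by
  classical
  obtain ⟨e⟩ := e
  have := A.finG
  have := A.finΩ
  have := A.finT
  have := A.transitive
  have hs := A.simple
  have := A.nontrivialΩ
  have hq2 : 2 ≤ q := by omega
  obtain ⟨a, b, hab⟩ := exists_pair_ne Ω
  choose vec hvec using exists_at' (Ω := Ω) hF hq2 e hs hn
  -- not proportional for different points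
  have hnp : ∀ x y : Ω, x ≠ y → hermForm 3 F q (vec x) (vec y) ≠ 0 := by
    intro x y hxy
    refine herm_ne hF (hvec y).ne (hvec y).iso (hvec x).iso ?_
    rintro ⟨c, hc⟩
    have hc0 : c ≠ 0 := by
      rintro rfl
      rw [zero_smul] at hc
      exact (hvec x).ne hc
    have h1 := (hvec y).smul hc0
    rw [← hc] at h1
    exact hxy ((hvec x).unique h1 hF hq2 hs hn)
  set v := vec a with hv
  set w := vec b with hw
  -- the line
  let L : Set Ω := {x | x ≠ a ∧ x ≠ b ∧ ∃ s t : F, vec x = s • v + t • w}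
  have hLcard : L.ncard ≤ q - 1 := by
    refine le_trans ?_ (card_roots (q := q) (h := hermForm 3 F q v w) (k := hermForm 3 F q w v)
      (hnp b a hab.symm) hq2)
    choose! s t hst using fun x (hx : x ∈ L) => hx.2.2
    have hs0 : ∀ x ∈ L, s x ≠ 0 := by
      intro x hx h0
      have h1 := hst x hx
      rw [h0, zero_smul, zero_add] at h1
      apply hnp x b hx.2.1
      rw [h1, herm_smul_left, (hvec b).iso, mul_zero]
    have ht0 : ∀ x ∈ L, t x ≠ 0 := by
      intro x hx h0
      have h1 := hst x hx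
      rw [h0, zero_smul, add_zero] at h1
      apply hnp x a hx.1
      rw [h1, herm_smul_left, (hvec a).iso, mul_zero]
    refine Set.ncard_le_ncard_of_injOn (fun x => t x / s x) ?_ ?_ (Set.toFinite _)
    · intro x hx
      have hsx := hs0 x hx
      refine ⟨div_ne_zero (ht0 x hx) hsx, ?_⟩
      have h1 := (hvec x).iso
      rw [hst x hx, herm_add_left, herm_add_right hF, herm_add_right hF, herm_smul_left, herm_smul_left,
        herm_smul_right, herm_smul_right, herm_smul_left, herm_smul_left, herm_smul_right, herm_smul_right,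
        (hvec a).iso, (hvec b).iso] at h1
      show (t x / s x) ^ q * hermForm 3 F q v w + t x / s x * hermForm 3 F q w v = 0
      have hsq : s x ^ q ≠ 0 := pow_ne_zero _ hsx
      rw [div_pow]
      field_simp
      linear_combination h1
    · intro x hx y hy hxy
      have h1 : t x / s x = t y / s y := hxy
      have hsx := hs0 x hx
      have hsy := hs0 y hy
      have h2 : vec y = (s y / s x) • vec x := by
        rw [hst x hx, hst y hy, smul_add, smul_smul, smul_smul]
        congr 2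
        · field_simp
        · rw [div_mul_eq_mul_div, mul_div_assoc, h1]
          field_simp
      have h3 := (hvec x).smul (div_ne_zero hsy hsx)
      rw [← h2] at h3
      exact h3.unique (hvec y) hF hq2 hs hn
  -- the fixators
  have heig : ∀ (g : SU 3 F q) (x : Ω), pi e g • x = x → ∃ c : F, g.1.1 *ᵥ vec x = c • vec x :=
    fun g x hx => ((hvec x).iff g).1 hx
  refine clash A H hab (L := L) ?_ (fun x hx => ⟨hx.1, hx.2.1⟩) ?_ ?_ ?_ ?_
  · -- nonempty
    obtain ⟨c, hc0, hc⟩ := exists_trace_zero_ne hF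
    have hk : hermForm 3 F q w v ≠ 0 := hnp b a hab.symm
    have hz : c / hermForm 3 F q w v ≠ 0 := div_ne_zero hc0 hk
    set z := c / hermForm 3 F q w v with hzd
    have hne : v + z • w ≠ 0 := by
      intro h0
      have h1 : hermForm 3 F q (v + z • w) v = 0 := by rw [h0, herm_zero_left]
      rw [herm_add_left, herm_smul_left, (hvec a).iso, zero_add] at h1
      exact (mul_ne_zero hz hk) h1
    have hiso : hermForm 3 F q (v + z • w) (v + z • w) = 0 := by
      rw [herm_add_left, herm_add_right hF, herm_add_right hF, herm_smul_left, herm_smul_left, herm_smul_right,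
        herm_smul_right, (hvec a).iso, (hvec b).iso]
      have h1 : z ^ q * hermForm 3 F q v w = c ^ q := by
        rw [hzd, div_pow, ← herm_swap hF w v]
        have h2 : hermForm 3 F q v w ≠ 0 := hnp a b hab
        field_simp
      have h2 : z * hermForm 3 F q w v = c := by
        rw [hzd, div_mul_cancel₀ _ hk]
      rw [h1, h2]
      linear_combination hc
    obtain ⟨x, hx⟩ := exists_of_vec (Ω := Ω) hF hq2 e hs hn hne hiso
    obtain ⟨d, hd⟩ := hx.prop hF (hvec x)
    have hd0 : d ≠ 0 := by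
      rintro rfl
      rw [zero_smul] at hd
      exact (hvec x).ne hd
    refine ⟨x, ?_, ?_, d, d * z, ?_⟩
    · rintro rfl
      have h1 : hermForm 3 F q (vec x) (vec x) = 0 := (hvec x).iso
      nth_rw 1 [hd] at h1
      rw [herm_smul_left, herm_add_left, herm_smul_left, ← hv, (hvec x).iso, zero_add] at h1
      exact (mul_ne_zero hd0 (mul_ne_zero hz hk)) h1
    · rintro rfl
      have h1 : hermForm 3 F q (vec x) (vec x) = 0 := (hvec x).iso
      nth_rw 1 [hd] at h1
      rw [herm_smul_left, herm_add_left, herm_smul_left, ← hw, (hvec x).iso, mul_zero, add_zero] at h1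
      exact (mul_ne_zero hd0 (hnp a x hab)) h1
    · rw [hd, smul_add, smul_smul]
  · -- invariance
    intro t hta htb x hx
    obtain ⟨g, rfl⟩ := pi_surj e t
    obtain ⟨α, hα⟩ := heig g a hta
    obtain ⟨β, hβ⟩ := heig g b htb
    obtain ⟨hxa, hxb, r, s, hrs⟩ := hx
    obtain ⟨c, hc⟩ := ((hvec x).act g).prop hF (hvec (pi e g • x))
    refine ⟨?_, ?_, c * (r * α), c * (s * β), ?_⟩
    · intro h
      apply hxa
      rw [← hta] at h
      exact smul_left_cancel _ h
    · intro h
      apply hxb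
      rw [← htb] at h
      exact smul_left_cancel _ h
    · rw [hc, hrs, mulVec_add, mulVec_smul, mulVec_smul, hα, hβ, smul_add, smul_smul, smul_smul, smul_smul, smul_smul,
        mul_assoc, mul_assoc]
  · -- regular outside the line
    intro x hxa hxb hxL t hta htb htx
    obtain ⟨g, rfl⟩ := pi_surj e t
    obtain ⟨α, hα⟩ := heig g a hta
    obtain ⟨β, hβ⟩ := heig g b htb
    obtain ⟨γ, hγ⟩ := heig g x htx
    obtain ⟨h1, h2⟩ := scalar_of_three hF (hnp a b hab) (hnp a x hxa.symm) (hnp b x hxb.symm) hα hβ hγ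
    have hli : LinearIndependent F ![v, w, vec x] := by
      rw [Fintype.linearIndependent_iff]
      intro f hf
      rw [Fin.sum_univ_three] at hf
      have hf' : f 0 • v + f 1 • w + f 2 • vec x = 0 := hf
      have hf2 : f 2 = 0 := by
        by_contra h0
        apply hxL
        refine ⟨hxa, hxb, -(f 0) / f 2, -(f 1) / f 2, ?_⟩
        have h3 : vec x = (f 2)⁻¹ • (f 2 • vec x) := by rw [smul_smul, inv_mul_cancel₀ h0, one_smul]
        have h4 : f 2 • vec x = -(f 0 • v + f 1 • w) := by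
          rw [eq_neg_iff_add_eq_zero, add_comm]
          exact hf'
        rw [h3, h4, smul_neg, smul_add, smul_smul, smul_smul, neg_add, ← neg_smul, ← neg_smul]
        congr 2 <;> ring
      rw [hf2, zero_smul, add_zero] at hf'
      have hf1 : f 1 = 0 := by
        have h3 := congrArg (fun z => hermForm 3 F q z v) hf'
        simp only [herm_add_left, herm_smul_left, herm_zero_left] at h3
        rw [hv, (hvec a).iso, mul_zero, zero_add] at h3
        rcases mul_eq_zero.1 h3 with h4 | h4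
        · exact h4
        · exact absurd h4 (hnp b a hab.symm)
      rw [hf1, zero_smul, add_zero] at hf'
      have hf0 : f 0 = 0 := by
        rcases smul_eq_zero.1 hf' with h4 | h4
        · exact h4
        · exact absurd h4 (hvec a).ne
      intro i
      fin_cases i
      · exact hf0
      · exact hf1
      · exact hf2
    have hall : ∀ y : Fin 3 → F, g.1.1 *ᵥ y = α • y := by
      let B := basisOfLinearIndependentOfCardEqFinrank hli (by simp)
      have h3 : (Matrix.mulVecLin g.1.1 : (Fin 3 → F) →ₗ[F] (Fin 3 → F)) = α • LinearMap.id := by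
        apply B.ext
        intro i
        have hB : B i = ![v, w, vec x] i := by
          simp only [B]
          rw [coe_basisOfLinearIndependentOfCardEqFinrank]
        rw [hB]
        fin_cases i
        · exact hα
        · show g.1.1 *ᵥ w = α • w
          rw [h1]; exact hβ
        · show g.1.1 *ᵥ vec x = α • vec x
          rw [h2]; exact hγ
      intro y
      have := LinearMap.congr_fun h3 y
      exact this
    have hcen : g ∈ Subgroup.center (SU 3 F q) := ClassicalGeometry.PSUAutBasic.mem_center_of_act hall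
    show e.symm (ClassicalGeometry.PSUAutBasic.pr 3 F q g) = 1
    rw [ClassicalGeometry.PSUAutBasic.pr_eq_one_iff.2 hcen, map_one]
  · -- the order
    have hT := Cfsg.Agent.H438.ConstFix.psu_card hF (by omega : 1 ≤ q)
    rw [← Nat.card_congr e.toEquiv, ← A.card_mul a, ← A.card_orbit_mul a b, hn] at hT
    have horb : Nat.card (orbit (stabilizer T a) b) ≤ q ^ 3 := by
      have hq3 : 0 < q ^ 3 := Nat.pow_pos (by omega)
      have h1 := Nat.le_of_dvd (by omega) (A.card_orbit_dvd hab)
      omega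
    set o := Nat.card (orbit (stabilizer T a) b)
    set s := Nat.card ↥(stabilizer T a ⊓ stabilizer T b)
    have hd3 : Nat.gcd 3 (q + 1) ≤ 3 := Nat.gcd_le_left _ (by norm_num)
    set d := Nat.gcd 3 (q + 1)
    by_contra hcon
    have hs1 : s ≤ q - 1 := by omega
    have h1 : d * (o * s) = q ^ 3 * (q ^ 2 - 1) := by
      apply Nat.eq_of_mul_eq_mul_left (show 0 < q ^ 3 + 1 by positivity)
      linear_combination hT
    have h2 : d * (o * s) ≤ 3 * (q ^ 3 * (q - 1)) :=
      Nat.mul_le_mul hd3 (Nat.mul_le_mul horb hs1)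
    have h3 : q ^ 2 - 1 = (q + 1) * (q - 1) := by
      obtain ⟨x, rfl⟩ : ∃ x, q = x + 1 := ⟨q - 1, by omega⟩
      rw [Nat.add_sub_cancel]
      have : (x + 1) ^ 2 = (x + 1 + 1) * x + 1 := by ring
      omega
    rw [h1, h3] at h2
    have h4 : q ^ 3 * ((q + 1) * (q - 1)) = (q + 1) * (q ^ 3 * (q - 1)) := by ring
    rw [h4] at h2
    have h5 : 0 < q ^ 3 * (q - 1) := Nat.mul_pos (by positivity) (by omega)
    have h6 := Nat.le_of_mul_le_mul_right h2 h5
    omega
  · -- a point outside
    by_contra hcon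
    push Not at hcon
    have h1 : (Set.univ : Set Ω) ⊆ {a} ∪ ({b} ∪ L) := by
      intro x _
      by_cases hxa : x = a
      · exact Or.inl hxa
      by_cases hxb : x = b
      · exact Or.inr (Or.inl hxb)
      · exact Or.inr (Or.inr (hcon x hxa hxb))
    have h2 := Set.ncard_le_ncard h1 (Set.toFinite _)
    rw [Set.ncard_univ, hn] at h2
    have h3 := Set.ncard_union_le {a} ({b} ∪ L)
    have h4 := Set.ncard_union_le {b} L
    rw [Set.ncard_singleton] at h3 h4
    have h5 : q ^ 3 = q * q ^ 2 := by ring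
    have h6 : 3 ^ 2 ≤ q ^ 2 := Nat.pow_le_pow_left hq 2
    have h7 : q * 9 ≤ q * q ^ 2 := Nat.mul_le_mul_left q h6
    omega

end Cfsg.Agent.H621.HalfT
end

-- part: H528/HalfRee
section
/-!
# `(2+1/2)`-transitive groups: the row `²G₂(q)` (task 1265)

`|G_ab| = (q - 1) d`, `d = |G : T|` odd and at most `2 k + 1`; an involution fixes `f` points, `f (f - 1) = q (q + 1) i`,
`i` the number of involutions of `G_ab`. So `f ≥ 3`, the length `m` of the orbits of `G_ab` is odd, an involution of `G_ab`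
fixes a point in each of them: `(f - 2) m ≥ n - 2`, which is impossible.
-/

set_option autoImplicit false
set_option linter.unusedSectionVars false

namespace Cfsg.Agent.H528.HalfRee

open MulAction Cfsg.Agent.H384.TwoTrans Cfsg.Agent.H386.HalfTwo

universe u v

variable {G : Type u} {Ω : Type v} [Group G] [MulAction G Ω] {T : Subgroup G} {m : ℕ}

theorem ncard_fix_conj (g t : G) : {x : Ω | (g * t * g⁻¹) • x = x}.ncard = {x : Ω | t • x = x}.ncard := by
  have h : {x : Ω | (g * t * g⁻¹) • x = x} = (fun x => g • x) '' {x : Ω | t • x = x} := by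
    ext x
    constructor
    · intro hx
      refine ⟨g⁻¹ • x, ?_, smul_inv_smul g x⟩
      have hx' : (g * t * g⁻¹) • x = x := hx
      show t • g⁻¹ • x = g⁻¹ • x
      rw [eq_inv_smul_iff, ← mul_smul, ← mul_smul]
      rwa [mul_assoc] at hx'
    · rintro ⟨y, hy, rfl⟩
      have hy' : t • y = y := hy
      show (g * t * g⁻¹) • g • y = g • y
      rw [mul_smul, inv_smul_smul, mul_smul, hy']
  rw [h]
  exact Set.ncard_image_of_injective _ (fun x y hxy => smul_left_cancel g hxy)

/-- Elements of order 2 lie in normal subgroups of odd index. -/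
theorem mem_of_odd_index [Finite G] [T.Normal] (hd : ¬ 2 ∣ T.index) {t : G} (ht : orderOf t = 2) : t ∈ T := by
  have h1 : orderOf (t : G ⧸ T) ∣ 2 := by
    rw [← ht]
    exact orderOf_map_dvd (QuotientGroup.mk' T) t
  have h2 : orderOf (t : G ⧸ T) ∣ T.index := orderOf_dvd_natCard _
  rcases (Nat.dvd_prime Nat.prime_two).1 h1 with h | h
  · rw [orderOf_eq_one_iff, QuotientGroup.eq_one_iff] at h
    exact h
  · exact absurd (h ▸ h2) hd

/-- The final estimate. -/
theorem num {q d e F m i : ℕ} (hq : q = 3 ^ e) (he : 3 ≤ e) (hd0 : 0 < d) (hde : d ≤ e)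
    (h1 : q ^ 2 * (q ^ 2 - q + 1) * (F * (F - 1)) = (q ^ 3 + 1) * (q ^ 3 + 1 - 1) * i) (hi : i ≤ (q - 1) * d)
    (hF : q ^ 3 + 1 - 2 ≤ (F - 2) * m) (hm : m ≤ (q - 1) * d) : False := by
  have hcube : ∀ j : ℕ, (j + 3) ^ 3 ≤ 3 ^ (j + 3) := by
    intro j
    induction j with
    | zero => norm_num
    | succ j ih =>
      have h2 : (j + 1 + 3) ^ 3 ≤ 3 * (j + 3) ^ 3 := by ring_nf; nlinarith only []
      calc (j + 1 + 3) ^ 3 ≤ 3 * (j + 3) ^ 3 := h2
        _ ≤ 3 * 3 ^ (j + 3) := by omega
        _ = 3 ^ (j + 1 + 3) := by ring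
  obtain ⟨j, rfl⟩ : ∃ j, e = j + 3 := ⟨e - 3, by omega⟩
  have hqd : d ^ 3 ≤ q := by
    rw [hq]
    exact (Nat.pow_le_pow_left hde 3).trans (hcube j)
  have hq27 : 27 ≤ q := by
    rw [hq]
    calc 27 = 3 ^ 3 := by norm_num
      _ ≤ _ := Nat.pow_le_pow_right (by norm_num) (by omega)
  clear hq hcube
  obtain ⟨r, rfl⟩ : ∃ r, q = r + 1 := ⟨q - 1, by omega⟩
  have e1 : (r + 1) ^ 2 - (r + 1) + 1 = r * (r + 1) + 1 := by
    have : (r + 1) ^ 2 = r * (r + 1) + (r + 1) := by ring
    omega
  rw [e1] at h1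
  simp only [Nat.add_sub_cancel] at h1 hi hm
  have e2 : (r + 1) ^ 3 + 1 = (r + 2) * (r * (r + 1) + 1) := by ring
  have h2 : F * (F - 1) = (r + 1) * (r + 2) * i := by
    have hpos : 0 < (r + 1) ^ 2 * (r * (r + 1) + 1) := by (clear * -; positivity)
    apply Nat.eq_of_mul_eq_mul_left hpos
    rw [h1, e2]
    ring
  have e3 : (r + 1) ^ 3 + 1 - 2 = r * ((r + 1) ^ 2 + (r + 1) + 1) := by
    have : (r + 1) ^ 3 = r * ((r + 1) ^ 2 + (r + 1) + 1) + 1 := by ring
    (clear * - e2 this; omega)
  rw [e3] at hF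
  have h3 : (r + 1) ^ 2 + (r + 1) + 1 ≤ (F - 2) * d := by
    have hr : 0 < r := by omega
    have h4 : r * ((r + 1) ^ 2 + (r + 1) + 1) ≤ r * ((F - 2) * d) := by
      calc r * ((r + 1) ^ 2 + (r + 1) + 1) ≤ (F - 2) * m := hF
        _ ≤ (F - 2) * (r * d) := Nat.mul_le_mul_left _ hm
        _ = r * ((F - 2) * d) := by ring
    exact Nat.le_of_mul_le_mul_left h4 hr
  set Q := (r + 1) ^ 2 + (r + 1) + 1 with hQ
  have h4 : Q ≤ F * d := h3.trans (Nat.mul_le_mul_right _ (Nat.sub_le _ _))
  have h5 : Q ≤ (F - 1) * d := h3.trans (Nat.mul_le_mul_right _ (by omega))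
  have h6 : Q * Q ≤ (F * (F - 1)) * (d * d) := by
    calc Q * Q ≤ (F * d) * ((F - 1) * d) := Nat.mul_le_mul h4 h5
      _ = _ := by ring
  have h7 : (F * (F - 1)) * (d * d) ≤ ((r + 1) * (r + 2) * (r * d)) * (d * d) := by
    rw [h2]
    exact Nat.mul_le_mul_right _ (Nat.mul_le_mul_left _ hi)
  have h8 : ((r + 1) * (r + 2) * (r * d)) * (d * d) ≤ (r + 1) * (r + 2) * r * (r + 1) := by
    calc ((r + 1) * (r + 2) * (r * d)) * (d * d) = (r + 1) * (r + 2) * r * d ^ 3 := by ring
      _ ≤ _ := Nat.mul_le_mul_left _ hqd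
  have h9 : (r + 1) * (r + 2) * r * (r + 1) < Q * Q := by
    rw [hQ]
    nlinarith only []
  omega

theorem ree (A : AS G Ω T) (H : Half G Ω m) {K : Type} [Field K] [Fintype K] {k : ℕ} (hk : 1 ≤ k)
    (hK : Fintype.card K = 3 ^ (2 * k + 1)) (e : Nonempty (T ≃* ↥(Cfsg.Lie.twistedG2 K (3 ^ k))))
    (hn : Nat.card Ω = Fintype.card K ^ 3 + 1) : False := by
  classical
  have := A.finG
  have := A.finΩ
  have := A.faithful
  have := A.normal
  obtain ⟨e⟩ := e
  set q := 3 ^ (2 * k + 1) with hq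
  rw [hK] at hn
  have hq27 : 27 ≤ q := by
    rw [hq]
    calc 27 = 3 ^ 3 := by norm_num
      _ ≤ _ := Nat.pow_le_pow_right (by norm_num) (by omega)
  have hq3 : 27 ≤ q ^ 3 := hq27.trans (Nat.le_self_pow (by norm_num) q)
  -- orders
  have hT : Nat.card T = q ^ 3 * (q - 1) * (q ^ 3 + 1) := by
    rw [Nat.card_congr e.toEquiv]
    exact Cfsg.Agent.ChevalleyStructure.ReeCount.card_twistedG2 hK
  have hTpos : 0 < Nat.card T := Nat.card_pos
  set d := T.index with hd
  have hGd : Nat.card T * d = Nat.card G := T.card_mul_index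
  have hdk : d ∣ 2 * k + 1 := by
    have h4 := Cfsg.Agent.H57.TTOut.AS.card_dvd A e
    rw [Cfsg.Agent.S2127.result hk hK, ← hGd] at h4
    exact Nat.dvd_of_mul_dvd_mul_left hTpos h4
  have hdle : d ≤ 2 * k + 1 := Nat.le_of_dvd (by omega) hdk
  have hdodd : ¬ 2 ∣ d := fun h => by
    have := h.trans hdk
    omega
  have hd0 : 0 < d := Nat.pos_of_ne_zero (by rintro h; rw [h] at hdodd; exact hdodd (dvd_zero 2))
  -- the class of involutions
  set C : Set G := {t | orderOf t = 2} with hC
  have hCT : ∀ t ∈ C, t ∈ T := fun t ht => mem_of_odd_index hdodd ht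
  have hCcard : C.ncard = q ^ 2 * (q ^ 2 - q + 1) := by
    have h1 : C = T.subtype '' {x : T | orderOf x = 2} := by
      ext t
      constructor
      · intro ht
        have ht' : orderOf t = 2 := ht
        exact ⟨⟨t, hCT t ht⟩, by
          show orderOf (⟨t, hCT t ht⟩ : T) = 2
          rw [Subgroup.orderOf_mk]; exact ht', rfl⟩
      · rintro ⟨x, hx, rfl⟩
        have hx' : orderOf x = 2 := hx
        show orderOf (x : G) = 2
        rw [Subgroup.orderOf_coe]; exact hx'
    rw [h1, Set.ncard_image_of_injective _ T.subtype_injective]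
    have h2 := (Cfsg.Agent.S2357.result hk hK).1
    rw [← hq] at h2
    rw [← h2]
    show Nat.card {x : T // orderOf x = 2} = _
    exact Nat.card_congr (e.toEquiv.subtypeEquiv (fun x => by
      show orderOf x = 2 ↔ orderOf (e x) = 2
      rw [MulEquiv.orderOf_eq]))
  have hCconj : ∀ t ∈ C, ∀ g : G, g * t * g⁻¹ ∈ C := by
    intro t ht g
    have ht' : orderOf t = 2 := ht
    show orderOf (g * t * g⁻¹) = 2
    rw [← ht']
    exact MulEquiv.orderOf_eq (MulAut.conj g) t
  have hCone : ∀ s ∈ C, ∀ t ∈ C, ∃ g : G, g * s * g⁻¹ = t := by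
    intro s hs t ht
    have hs' : orderOf s = 2 := hs
    have ht' : orderOf t = 2 := ht
    obtain ⟨c, hc⟩ := isConj_iff.1 (Cfsg.Agent.H57.TTRee.ree_conj hk hK (e ⟨s, hCT s hs⟩) (e ⟨t, hCT t ht⟩)
      (by rw [MulEquiv.orderOf_eq, Subgroup.orderOf_mk]; exact hs')
      (by rw [MulEquiv.orderOf_eq, Subgroup.orderOf_mk]; exact ht'))
    refine ⟨((e.symm c : T) : G), ?_⟩
    have h1 : e.symm c * ⟨s, hCT s hs⟩ * (e.symm c)⁻¹ = ⟨t, hCT t ht⟩ := by
      apply e.injective
      rw [map_mul, map_mul, map_inv, e.apply_symm_apply, hc]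
    exact congrArg Subtype.val h1
  -- two points and the order of the stabiliser
  have hnt : Nontrivial Ω := Finite.one_lt_card_iff_nontrivial.1 (by rw [hn]; omega)
  obtain ⟨a, b, hab⟩ := exists_pair_ne Ω
  have hGG : Nat.card (GG G a b) = (q - 1) * d := by
    have h1 := card_eq A.two hab
    rw [← hGd, hT, hn] at h1
    have hpos : 0 < (q ^ 3 + 1) * (q ^ 3 + 1 - 1) := Nat.mul_pos (by omega) (by omega)
    apply Nat.eq_of_mul_eq_mul_left hpos
    rw [← h1, Nat.add_sub_cancel]
    ring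
  have hGG2 : 2 ∣ Nat.card (GG G a b) := by
    rw [hGG]
    refine Dvd.dvd.mul_right ?_ _
    have hodd : q % 2 = 1 := by
      rw [hq]
      exact Nat.odd_iff.1 (Odd.pow (by decide))
    omega
  have hGG4 : ¬ 4 ∣ Nat.card (GG G a b) := by
    rw [hGG]
    have h1 : q % 4 = 3 := by
      rw [hq, pow_succ, pow_mul]
      have : (3 ^ 2) ^ k % 4 = 1 := by
        rw [Nat.pow_mod]
        norm_num
      omega
    intro h4
    obtain ⟨z, hz⟩ : ∃ z, q = 4 * z + 3 := ⟨q / 4, by omega⟩
    rw [hz] at h4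
    have h5 : 4 * z + 3 - 1 = 2 * (2 * z + 1) := by (clear * -; omega)
    rw [h5, mul_assoc] at h4
    have h6 : 2 ∣ (2 * z + 1) * d := by
      have : 2 * 2 ∣ 2 * ((2 * z + 1) * d) := h4
      exact Nat.dvd_of_mul_dvd_mul_left (by norm_num) this
    rcases (Nat.prime_two.dvd_mul).1 h6 with h7 | h7
    · (clear * - h7; omega)
    · exact hdodd h7
  -- an involution fixing `a` and `b`
  have hp2 : Fact (Nat.Prime 2) := ⟨Nat.prime_two⟩
  obtain ⟨t0, ht0⟩ := exists_prime_orderOf_dvd_card' 2 hGG2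
  set t : G := (t0 : G) with htdef
  have ht2 : orderOf t = 2 := by rw [htdef, Subgroup.orderOf_coe, ht0]
  have htC : t ∈ C := ht2
  have htab := mem_GG.1 t0.2
  set F := {x : Ω | t • x = x}.ncard with hF
  have hφ : ∀ s ∈ C, {x : Ω | s • x = x}.ncard = F := by
    intro s hs
    obtain ⟨g, rfl⟩ := hCone t htC s hs
    exact ncard_fix_conj g t
  set i := {s : G | s ∈ C ∧ s • a = a ∧ s • b = b}.ncard with hi
  have hcount : C.ncard * (F * (F - 1)) = Nat.card Ω * (Nat.card Ω - 1) * i :=
    fix_count (fun a b c d hab hcd => Cfsg.Agent.H384.TwoTrans.two_pts A.two a b c d hab hcd) C hCconj hφ hab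
  rw [hCcard, hn] at hcount
  have hile : i ≤ (q - 1) * d := by
    rw [← hGG, hi]
    have h1 : {s : G | s ∈ C ∧ s • a = a ∧ s • b = b} ⊆ (GG G a b : Set G) := by
      rintro s ⟨-, h2, h3⟩
      exact mem_GG.2 ⟨h2, h3⟩
    exact Set.ncard_le_ncard h1 (Set.toFinite _)
  have hi1 : 1 ≤ i := by
    rw [hi, Nat.one_le_iff_ne_zero]
    intro h0
    rw [Set.ncard_eq_zero] at h0
    have : t ∈ ({s : G | s ∈ C ∧ s • a = a ∧ s • b = b} : Set G) := ⟨htC, htab.1, htab.2⟩
    rw [h0] at this
    exact this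
  have hF3 : 3 ≤ F := by
    by_contra hlt
    push Not at hlt
    have h1 : F * (F - 1) ≤ 2 := by interval_cases F <;> omega
    have h2 : q ^ 2 * (q ^ 2 - q + 1) * (F * (F - 1)) ≤ q ^ 2 * (q ^ 2 - q + 1) * 2 := Nat.mul_le_mul_left _ h1
    rw [hcount] at h2
    have h3 : (q ^ 3 + 1) * (q ^ 3 + 1 - 1) ≤ (q ^ 3 + 1) * (q ^ 3 + 1 - 1) * i := Nat.le_mul_of_pos_right _ hi1
    have h4 : q ^ 2 * (q ^ 2 - q + 1) * 2 ≤ q ^ 2 * (q ^ 2) * 2 := by
      apply Nat.mul_le_mul_right
      apply Nat.mul_le_mul_left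
      have : q ≤ q ^ 2 := Nat.le_self_pow (by norm_num) q
      omega
    have h5 : q ^ 2 * (q ^ 2) * 2 < (q ^ 3 + 1) * (q ^ 3 + 1 - 1) := by
      rw [Nat.add_sub_cancel]
      have h6 : q ^ 2 * (q ^ 2) * 2 ≤ q ^ 3 * (q ^ 3) := by
        calc q ^ 2 * (q ^ 2) * 2 = q ^ 4 * 2 := by ring
          _ ≤ q ^ 4 * q ^ 2 := Nat.mul_le_mul_left _ (by nlinarith only [hq27])
          _ = q ^ 3 * q ^ 3 := by ring
      have h7 : (q ^ 3 + 1) * q ^ 3 = q ^ 3 * q ^ 3 + q ^ 3 := by ring
      omega
    omega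
  -- a third fixed point: `m` is odd
  obtain ⟨c, hct, hca, hcb⟩ : ∃ c : Ω, t • c = c ∧ c ≠ a ∧ c ≠ b := by
    by_contra hcon
    push Not at hcon
    have h1 : {x : Ω | t • x = x} ⊆ {a, b} := by
      intro x hx
      by_cases hxa : x = a
      · exact Or.inl hxa
      · exact Or.inr (hcon x hx hxa)
    have h2 := Set.ncard_le_ncard h1 (Set.toFinite _)
    rw [Set.ncard_pair hab] at h2
    omega
  have hmo := H.orb a b c hab hca hcb
  have hms : m * Nat.card (stabilizer (GG G a b) c) = Nat.card (GG G a b) := by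
    rw [← hmo, Nat.card_coe_set_eq, ← index_stabilizer, mul_comm]
    exact Subgroup.card_mul_index _
  have h2s : 2 ∣ Nat.card (stabilizer (GG G a b) c) := by
    have h1 : t0 ∈ stabilizer (GG G a b) c := hct
    have h2 := orderOf_dvd_natCard (⟨t0, h1⟩ : stabilizer (GG G a b) c)
    rw [Subgroup.orderOf_mk, ht0] at h2
    exact h2
  have hm2 : ¬ 2 ∣ m := by
    intro h1
    apply hGG4
    rw [← hms]
    exact Nat.mul_dvd_mul h1 h2s
  have hmle : m ≤ (q - 1) * d := by
    rw [← hGG]
    refine Nat.le_of_dvd Nat.card_pos ⟨_, hms.symm⟩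
  -- every orbit contains a fixed point of `t`
  have hcover : Nat.card Ω - 2 ≤ (F - 2) * m := by
    have hft : Fintype Ω := Fintype.ofFinite Ω
    let S : Finset Ω := Finset.univ.filter fun x => t • x = x ∧ x ≠ a ∧ x ≠ b
    let f : Ω → Finset Ω := fun x => Finset.univ.filter fun y => y ∈ orbit (GG G a b) x
    have hS : S.card = F - 2 := by
      have h1 : (Finset.univ.filter fun x : Ω => t • x = x) = insert a (insert b S) := by
        ext x
        simp only [Finset.mem_filter, Finset.mem_univ, true_and, Finset.mem_insert, S]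
        constructor
        · intro hx
          by_cases hxa : x = a
          · exact Or.inl hxa
          by_cases hxb : x = b
          · exact Or.inr (Or.inl hxb)
          · exact Or.inr (Or.inr ⟨hx, hxa, hxb⟩)
        · rintro (rfl | rfl | hx)
          · exact htab.1
          · exact htab.2
          · exact hx.1
      have h2 : F = (Finset.univ.filter fun x : Ω => t • x = x).card := by
        rw [hF, Set.ncard_eq_toFinset_card', Set.toFinset_ofPred]
      rw [h2, h1, Finset.card_insert_of_notMem, Finset.card_insert_of_notMem]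
      · rfl
      · simp [S]
      · simp [S, hab]
    have hf : ∀ x ∈ S, (f x).card ≤ m := by
      intro x hx
      have hx' : t • x = x ∧ x ≠ a ∧ x ≠ b := by simpa [S] using hx
      have h1 := H.orb a b x hab hx'.2.1 hx'.2.2
      rw [Nat.card_coe_set_eq, Set.ncard_eq_toFinset_card'] at h1
      rw [← h1]
      apply le_of_eq
      congr 1
      ext y
      simp [f]
    have h3 := Finset.card_biUnion_le_card_mul S f m hf
    rw [hS] at h3
    refine le_trans ?_ h3
    have h4 : Nat.card Ω - 2 = ({a, b}ᶜ : Finset Ω).card := by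
      rw [Finset.card_compl, Finset.card_pair hab, Nat.card_eq_fintype_card]
    rw [h4]
    apply Finset.card_le_card
    intro y hy
    have hy' : y ≠ a ∧ y ≠ b := by simpa using hy
    have hPz : IsPGroup 2 (Subgroup.zpowers t) := by
      apply IsPGroup.of_card (n := 1)
      rw [Nat.card_zpowers, ht2, pow_one]
    have hzle : Subgroup.zpowers t ≤ GG G a b := by
      rw [Subgroup.zpowers_le]
      exact t0.2
    obtain ⟨z, hz, hzt⟩ := H.exists_fix hab hy'.1 hy'.2 Nat.prime_two hm2 hPz hzle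
    have hzt' := hzt t (Subgroup.mem_zpowers t)
    rw [Finset.mem_biUnion]
    refine ⟨z, ?_, ?_⟩
    · obtain ⟨u, rfl⟩ := hz
      have hu := mem_GG.1 u.2
      simp only [S, Finset.mem_filter, Finset.mem_univ, true_and]
      exact ⟨hzt', ne_of_smul hu.1 hy'.1, ne_of_smul hu.2 hy'.2⟩
    · simp only [f, Finset.mem_filter, Finset.mem_univ, true_and]
      exact (orbit_eq_iff.2 hz) ▸ mem_orbit_self y
  rw [hn] at hcover
  exact num (e := 2 * k + 1) hq (by omega) hd0 hdle hcount hile hcover hmle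

end Cfsg.Agent.H528.HalfRee
end

-- part: H344/Burn
section
/-!
# Two 2-transitive actions of the same degree: equal numbers of fixed points (Burnside), helper344

`Cfsg.Agent.H344.Burn.transfer` : if `X` is 2-transitive on `Ω` and on `N`, `|Ω| = |N|`, and a point stabiliser on `Ω` is
not transitive on `N`, then every element of `X` has as many fixed points on `Ω` as on `N`; so `k`-transitivity of `X` on
`N` implies `k`-transitivity on `Ω`.
-/

set_option autoImplicit false
set_option linter.unusedSectionVars false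

namespace Cfsg.Agent.H344.Burn

open MulAction

universe u v w

variable {X : Type u} [Group X] [Finite X]

theorem sum_fix [Fintype X] (Y : Type v) [MulAction X Y] [Finite Y] :
    ∑ g : X, Nat.card (fixedBy Y g) = Nat.card (Quotient (orbitRel X Y)) * Nat.card X := by
  classical
  have : Fintype Y := Fintype.ofFinite Y
  have : ∀ g : X, Fintype (fixedBy Y g) := fun g => Fintype.ofFinite _
  have : Fintype (Quotient (orbitRel X Y)) := Fintype.ofFinite _
  have h := sum_card_fixedBy_eq_card_orbits_mul_card_group X Y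
  simp only [Nat.card_eq_fintype_card]
  convert h

theorem card_fix_prod {Ω : Type v} {N : Type w} [MulAction X Ω] [MulAction X N] (g : X) :
    Nat.card (fixedBy (Ω × N) g) = Nat.card (fixedBy Ω g) * Nat.card (fixedBy N g) := by
  rw [← Nat.card_prod]
  refine Nat.card_congr ⟨fun x => (⟨x.1.1, congrArg Prod.fst x.2⟩, ⟨x.1.2, congrArg Prod.snd x.2⟩),
    fun y => ⟨(y.1.1, y.2.1), Prod.ext y.1.2 y.2.2⟩, fun _ => rfl, fun _ => rfl⟩

theorem card_fix_emb {Ω : Type v} [MulAction X Ω] [Finite Ω] (k : ℕ) (g : X) :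
    Nat.card (fixedBy (Fin k ↪ Ω) g) = (Nat.card (fixedBy Ω g)).descFactorial k := by
  classical
  have : Fintype Ω := Fintype.ofFinite Ω
  have : Fintype (fixedBy Ω g) := Fintype.ofFinite _
  have h1 : Nat.card (Fin k ↪ fixedBy Ω g) = (Nat.card (fixedBy Ω g)).descFactorial k := by
    rw [Nat.card_eq_fintype_card, Fintype.card_embedding_eq, Fintype.card_fin, Nat.card_eq_fintype_card]
  rw [← h1]
  refine Nat.card_congr ⟨fun x => ⟨fun i => ⟨x.1 i, ?_⟩, ?_⟩, fun y => ⟨⟨fun i => (y i).1, ?_⟩, ?_⟩, ?_, ?_⟩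
  · have h := x.2
    rw [mem_fixedBy] at h
    rw [mem_fixedBy]
    exact DFunLike.congr_fun h i
  · intro i j hij
    exact x.1.injective (congrArg Subtype.val hij)
  · intro i j hij
    exact y.injective (Subtype.ext hij)
  · rw [mem_fixedBy]
    ext i
    exact (y i).2
  · intro x
    rfl
  · intro y
    rfl

theorem card_quot_le_one {Y : Type v} [MulAction X Y] [Finite Y] :
    Nat.card (Quotient (orbitRel X Y)) ≤ 1 ↔ IsPretransitive X Y := by
  rw [pretransitive_iff_subsingleton_quotient, Finite.card_le_one_iff_subsingleton]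

theorem card_quot_eq_one {Y : Type v} [MulAction X Y] [Finite Y] [Nonempty Y] (h : IsPretransitive X Y) :
    Nat.card (Quotient (orbitRel X Y)) = 1 := by
  have h1 := card_quot_le_one.2 h
  have h2 : 0 < Nat.card (Quotient (orbitRel X Y)) := by
    have : Nonempty (Quotient (orbitRel X Y)) := ⟨Quotient.mk _ (Classical.arbitrary Y)⟩
    exact Nat.card_pos
  omega

theorem sum_sq [Fintype X] {Ω : Type v} [MulAction X Ω] [Finite Ω] (hn : 2 ≤ Nat.card Ω)
    (h : IsMultiplyPretransitive X Ω 2) :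
    ∑ g : X, Nat.card (fixedBy Ω g) * Nat.card (fixedBy Ω g) = 2 * Nat.card X := by
  classical
  have : Fintype Ω := Fintype.ofFinite Ω
  have h1 : IsPretransitive X Ω := by
    have := h
    exact isPretransitive_of_is_two_pretransitive
  have : Nonempty Ω := by
    apply (Finite.card_pos_iff).1; omega
  have : Nonempty (Fin 2 ↪ Ω) := by
    rw [Function.Embedding.nonempty_iff_card_le, Fintype.card_fin, ← Nat.card_eq_fintype_card]
    exact hn
  have e1 := sum_fix (X := X) Ω
  have e2 := sum_fix (X := X) (Fin 2 ↪ Ω)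
  rw [card_quot_eq_one h1, one_mul] at e1
  rw [card_quot_eq_one h, one_mul] at e2
  simp only [card_fix_emb] at e2
  rw [two_mul]
  nth_rw 1 [← e1]
  rw [← e2, ← Finset.sum_add_distrib]
  refine Finset.sum_congr rfl fun g _ => ?_
  rw [Nat.descFactorial_succ, Nat.descFactorial_one]
  rcases Nat.eq_zero_or_pos (Nat.card (fixedBy Ω g)) with h0 | h0
  · rw [h0]
  · obtain ⟨m, hm⟩ : ∃ m, Nat.card (fixedBy Ω g) = m + 1 := ⟨_, (Nat.succ_pred_eq_of_pos h0).symm⟩
    rw [hm, Nat.add_sub_cancel]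
    ring

/-- **equal numbers of fixed points** -/
theorem card_fix_eq {Ω : Type v} {N : Type w} [MulAction X Ω] [MulAction X N] [Finite Ω] [Finite N]
    (hn : 2 ≤ Nat.card Ω) (hnN : 2 ≤ Nat.card N)
    (hΩ : IsMultiplyPretransitive X Ω 2) (hN : IsMultiplyPretransitive X N 2)
    (hnot : ¬ IsPretransitive X (Ω × N)) (g : X) : Nat.card (fixedBy Ω g) = Nat.card (fixedBy N g) := by
  classical
  have : Fintype X := Fintype.ofFinite X
  have e1 := sum_sq hn hΩ
  have e2 := sum_sq hnN hN
  have e3 := sum_fix (X := X) (Ω × N)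
  simp only [card_fix_prod] at e3
  have h2 : 2 ≤ Nat.card (Quotient (orbitRel X (Ω × N))) := by
    by_contra hcon
    exact hnot (card_quot_le_one.1 (by omega))
  have e4 : 2 * Nat.card X ≤ ∑ g : X, Nat.card (fixedBy Ω g) * Nat.card (fixedBy N g) := by
    rw [e3]
    exact Nat.mul_le_mul_right _ h2
  have key : ∑ g : X, ((Nat.card (fixedBy Ω g) : ℤ) - Nat.card (fixedBy N g)) ^ 2 ≤ 0 := by
    have e5 : ∑ g : X, ((Nat.card (fixedBy Ω g) : ℤ) - Nat.card (fixedBy N g)) ^ 2 =
        (∑ g : X, Nat.card (fixedBy Ω g) * Nat.card (fixedBy Ω g) : ℕ) +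
        (∑ g : X, Nat.card (fixedBy N g) * Nat.card (fixedBy N g) : ℕ) -
        2 * (∑ g : X, Nat.card (fixedBy Ω g) * Nat.card (fixedBy N g) : ℕ) := by
      push_cast
      rw [Finset.mul_sum, ← Finset.sum_add_distrib, ← Finset.sum_sub_distrib]
      refine Finset.sum_congr rfl fun g _ => ?_
      ring
    rw [e5, e1, e2]
    have e4' : (2 * Nat.card X : ℤ) ≤ ((∑ g : X, Nat.card (fixedBy Ω g) * Nat.card (fixedBy N g) : ℕ) : ℤ) := by
      exact_mod_cast e4
    push_cast at e4' ⊢
    linarith only [e4]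
  have h3 := (Finset.sum_eq_zero_iff_of_nonneg (s := Finset.univ)
    (f := fun g : X => ((Nat.card (fixedBy Ω g) : ℤ) - Nat.card (fixedBy N g)) ^ 2)
    (fun g _ => sq_nonneg _)).1 (le_antisymm key (Finset.sum_nonneg fun g _ => sq_nonneg _)) g (Finset.mem_univ g)
  have h4 := pow_eq_zero_iff (two_ne_zero) |>.1 h3
  have h5 := sub_eq_zero.1 h4
  exact_mod_cast h5

/-- **transfer of multiple transitivity** -/
theorem transfer {Ω : Type v} {N : Type w} [MulAction X Ω] [MulAction X N] [Finite Ω] [Finite N]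
    (hf : ∀ g : X, Nat.card (fixedBy Ω g) = Nat.card (fixedBy N g)) (k : ℕ) (h : IsMultiplyPretransitive X N k) :
    IsMultiplyPretransitive X Ω k := by
  classical
  have : Fintype X := Fintype.ofFinite X
  have e1 := sum_fix (X := X) (Fin k ↪ Ω)
  have e2 := sum_fix (X := X) (Fin k ↪ N)
  simp only [card_fix_emb, hf] at e1 e2
  rw [e1] at e2
  have h1 : Nat.card (Quotient (orbitRel X (Fin k ↪ Ω))) = Nat.card (Quotient (orbitRel X (Fin k ↪ N))) :=
    Nat.eq_of_mul_eq_mul_right Nat.card_pos e2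
  apply card_quot_le_one.1
  rw [h1]
  exact card_quot_le_one.2 h

end Cfsg.Agent.H344.Burn
end

-- part: H344/HalfM22
section
/-!
# S3576, row `M22` in degree 22 (helper344)

The socle `M22` acts 2-transitively on `Ω`, `|Ω| = 22`.  Compare (Burnside) with its natural action on 22 points: the two
permutation characters coincide, so the action on `Ω` is 3-transitive too.
-/

set_option autoImplicit false

namespace Cfsg.Agent.H344.HalfM22

open MulAction Cfsg.Agent.H384.TwoTrans Cfsg.Agent.H386.HalfTwo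
open scoped Pointwise

/-- the 22 points -/
abbrev N22 : Type := {x : Cfsg.GolayPt // x ≠ none ∧ x ≠ some 0}

theorem mem_M22 (g : Equiv.Perm Cfsg.GolayPt) :
    g ∈ Cfsg.Spor.M22 ↔ g ∈ Cfsg.M24 ∧ g none = none ∧ g (some 0) = some 0 := by
  show ((g ∈ Cfsg.M24 ∧ g ∈ stabilizer (Equiv.Perm Cfsg.GolayPt) none) ∧
    g ∈ stabilizer (Equiv.Perm Cfsg.GolayPt) (some 0 : Cfsg.GolayPt)) ↔ _
  rw [mem_stabilizer_iff, mem_stabilizer_iff, and_assoc]
  rfl

/-- the natural action of `M22` -/
instance act : MulAction Cfsg.Spor.M22 N22 where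
  smul g x := ⟨g.1 x.1, by
    obtain ⟨-, h1, h2⟩ := (mem_M22 g.1).1 g.2
    exact ⟨fun h => x.2.1 (g.1.injective (h.trans h1.symm)), fun h => x.2.2 (g.1.injective (h.trans h2.symm))⟩⟩
  one_smul x := rfl
  mul_smul g h x := rfl

theorem card_N22 : Nat.card N22 = 22 := by
  rw [Nat.card_eq_fintype_card]
  decide +kernel

/-- extend a triple by the two fixed points -/
def ext5 (x : Fin 3 ↪ N22) : Fin 5 ↪ Cfsg.GolayPt :=
  ⟨![none, some 0, (x 0).1, (x 1).1, (x 2).1], by
    have h01 : (x 0).1 ≠ (x 1).1 := fun h => by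
      have := x.injective (Subtype.ext h); exact absurd this (by decide)
    have h02 : (x 0).1 ≠ (x 2).1 := fun h => by
      have := x.injective (Subtype.ext h); exact absurd this (by decide)
    have h12 : (x 1).1 ≠ (x 2).1 := fun h => by
      have := x.injective (Subtype.ext h); exact absurd this (by decide)
    have h0 := (x 0).2
    have h1 := (x 1).2
    have h2 := (x 2).2
    intro i j hij
    fin_cases i <;> fin_cases j <;> simp_all only [Ne.symm, _root_.ne_eq, _root_.Fin.isValue, _root_.Fin.zero_eta, _root_.Matrix.cons_val_zero, _root_.Fin.mk_one, _root_.Matrix.cons_val_one, _root_.reduceCtorEq, _root_.not_false_eq_true, _root_.Fin.reduceFinMk, _root_.Matrix.cons_val]⟩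

theorem three : IsMultiplyPretransitive Cfsg.Spor.M22 N22 3 := by
  have h5 := Cfsg.Agent.S0366.result
  rw [isMultiplyPretransitive_iff] at h5 ⊢
  intro x y
  obtain ⟨g, hg⟩ := h5 (ext5 x) (ext5 y)
  have e0 : g.1 none = none := DFunLike.congr_fun hg 0
  have e1 : g.1 (some 0) = some 0 := DFunLike.congr_fun hg 1
  have e2 : g.1 (x 0).1 = (y 0).1 := DFunLike.congr_fun hg 2
  have e3 : g.1 (x 1).1 = (y 1).1 := DFunLike.congr_fun hg 3
  have e4 : g.1 (x 2).1 = (y 2).1 := DFunLike.congr_fun hg 4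
  refine ⟨⟨g.1, (mem_M22 _).2 ⟨g.2, e0, e1⟩⟩, ?_⟩
  ext i : 1
  apply Subtype.ext
  show g.1 (x i).1 = (y i).1
  fin_cases i
  · exact e2
  · exact e3
  · exact e4

universe u v

/-- a 2-transitive group of prime-to-`n - 1` index in ... : `T` is 2-transitive when `gcd(|Out T|, n - 1) = 1` -/
theorem T_two {G : Type u} {Ω : Type v} [Group G] [MulAction G Ω] {T : Subgroup G} (A : AS G Ω T) {out : ℕ}
    (hG : Nat.card G ∣ out * Nat.card ↥T) (hc : Nat.Coprime out (Nat.card Ω - 1)) :
    IsMultiplyPretransitive T Ω 2 := by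
  have := A.finΩ
  have := A.finT
  have := A.transitive
  have key : ∀ a b c : Ω, b ≠ a → c ≠ a → ∃ t : T, t • a = a ∧ t • b = c := by
    intro a b c hb hcc
    obtain ⟨j, hj1, hj2, hj3⟩ := Cfsg.Agent.H970.TwoSpor.exists_two_point A hG a b hb.symm
    have hj : j = 1 := Nat.dvd_one.1 (hc ▸ Nat.dvd_gcd hj1 hj2)
    rw [hj, mul_one] at hj3
    have h1 := A.card_orbit_mul a b
    rw [hj3] at h1
    have h2 : Nat.card (orbit (stabilizer T a) b) = Nat.card Ω - 1 :=
      Nat.eq_of_mul_eq_mul_right Nat.card_pos h1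
    have h3 : orbit (stabilizer T a) b = ({a} : Set Ω)ᶜ := by
      apply Set.eq_of_subset_of_ncard_le
      · rintro x ⟨g, rfl⟩ h
        rw [Set.mem_singleton_iff] at h
        apply hb
        have h4 : (g : T) • b = (g : T) • a := by
          rw [show (g : T) • a = a from g.2]; exact h
        exact smul_left_cancel (g : T) h4
      · rw [Set.ncard_compl, Set.ncard_singleton, ← h2, Nat.card_coe_set_eq]
      · exact Set.toFinite _
    have h4 : c ∈ orbit (stabilizer T a) b := by
      rw [h3]; exact hcc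
    obtain ⟨g, hg⟩ := h4
    exact ⟨g, g.2, hg⟩
  rw [MulAction.is_two_pretransitive_iff]
  intro a b c d hab hcd
  obtain ⟨t, ht⟩ := exists_smul_eq T a c
  have h1 : t • b ≠ c := by
    intro h
    exact hab (smul_left_cancel t (ht.trans h.symm))
  obtain ⟨s, hs1, hs2⟩ := key c (t • b) d h1 hcd.symm
  exact ⟨s * t, by rw [mul_smul, ht, hs1], by rw [mul_smul, hs2]⟩

theorem up {G : Type u} {Ω : Type v} [Group G] [MulAction G Ω] {T : Subgroup G} {k : ℕ}
    (h : IsMultiplyPretransitive T Ω k) : IsMultiplyPretransitive G Ω k := by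
  rw [isMultiplyPretransitive_iff] at h ⊢
  intro x y
  obtain ⟨g, hg⟩ := h x y
  exact ⟨(g : G), hg⟩

variable {G : Type u} {Ω : Type v} [Group G] [MulAction G Ω] {T : Subgroup G} {m : ℕ}

theorem three_T (A : AS G Ω T) (h : Cfsg.Spor.IsoM22 T) (hn : Nat.card Ω = 22) : IsMultiplyPretransitive T Ω 3 := by
  have := A.finΩ
  have := A.finT
  have hT : Nat.card T = 443520 := Cfsg.Agent.NotCT.Orders.m22 h
  obtain ⟨e⟩ := h
  have hG : Nat.card G ∣ 2 * Nat.card ↥T := by
    have h1 := A.index_dvd_out e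
    rw [Cfsg.Agent.S2062.result] at h1
    rw [← Subgroup.index_mul_card T]
    exact Nat.mul_dvd_mul_right h1 _
  have h2 : IsMultiplyPretransitive T Ω 2 := T_two A hG (by rw [hn]; decide)
  let : MulAction T N22 := MulAction.compHom N22 (e : T →* Cfsg.Spor.M22)
  have h3N : IsMultiplyPretransitive T N22 3 := by
    have h3 := three
    rw [isMultiplyPretransitive_iff] at h3 ⊢
    intro x y
    obtain ⟨g, hg⟩ := h3 x y
    refine ⟨e.symm g, ?_⟩
    rw [← hg]
    ext i : 1
    show e (e.symm g) • x i = g • x i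
    rw [e.apply_symm_apply]
  have h2N : IsMultiplyPretransitive T N22 2 :=
    MulAction.isMultiplyPretransitive_of_le (n := 3) (by norm_num) (by rw [card_N22]; norm_num)
  refine Burn.transfer (Burn.card_fix_eq (X := T) (by omega) (by rw [card_N22]; norm_num) h2 h2N ?_) 3 h3N
  intro hcon
  have h0 : Nat.card (Ω × N22) ∣ Nat.card T := by
    obtain ⟨a⟩ : Nonempty Ω := by have := A.nontrivialΩ; infer_instance
    obtain ⟨b⟩ : Nonempty N22 := (Finite.card_pos_iff).1 (by rw [card_N22]; norm_num)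
    rw [← MulAction.index_stabilizer_of_transitive T (a, b)]
    exact Subgroup.index_dvd_card _
  rw [Nat.card_prod, hn, card_N22, hT] at h0
  revert h0
  decide

theorem m22 (A : AS G Ω T) (_H : Half G Ω m) (h : Cfsg.Spor.IsoM22 T) (hn : Nat.card Ω = 22) :
    m = 1 ∨ IsMultiplyPretransitive G Ω 3 :=
  Or.inr (up (three_T A h hn))

end Cfsg.Agent.H344.HalfM22
end
end

-- part: H621/Half/Sz
section
prune_inst 0x21203014610000000000058071003c66de00059000688401c4c00ac607898fc240000920b6a011155a08230400390060131000f0420000000a000000013804810028100490080000020010008084000000000000000000000000000000000004200400000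
set_option linter.all false
open scoped Cfsg.Agent.FastGrp

/-!
# `(2+1/2)`-transitive groups: the row `Sz(q)` (task 1264, helper621)
-/

set_option autoImplicit false
set_option linter.unusedSectionVars false

namespace Cfsg.Agent.H621.HalfT.Suz

open MulAction Cfsg.Agent.LieRecognition.SzMatrix Cfsg.Agent.LieRecognition Cfsg.Agent.H88
open Cfsg.Agent.H384.TwoTrans Cfsg.Agent.H386.HalfTwo

universe u v

variable {F : Type} [Field F] [Finite F] {θ : F →+* F} {e : ℕ}

theorem pow_four_eq {X : Type*} [Group X] (x : X) : x ^ 4 = (x * x) * (x * x) := by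
  rw [pow_succ, pow_succ, pow_succ, pow_one, mul_assoc (x * x)]

/-- the points of the action of degree `q² + 1` -/
theorem exists_pts (H : Good F θ e) {k : ℕ} (hk : k ≠ 0) (hF : Nat.card F = 2 ^ k) {X : Type v} [Finite X]
    [MulAction ↥(Cfsg.Lie.Sz F e) X] (hX : IsPretransitive ↥(Cfsg.Lie.Sz F e) X) (hn : Nat.card X = Nat.card F ^ 2 + 1) :
    ∃ a b : X, a ≠ b ∧ (∀ g : ↥(Cfsg.Lie.Sz F e), g • a = a ↔ g ∈ H.borel) ∧
      (∀ g : ↥(Cfsg.Lie.Sz F e), g • b = b ↔ (H.w)⁻¹ * g * H.w ∈ H.borel) ∧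
      ∀ x : X, x ≠ a → ∃ s t : F, H.u s t • b = x := by
  have R := RkSz.rk H hk hF
  obtain ⟨E, hE⟩ := R.exists_equiv hX (by rw [H.card_unip, hn])
  refine ⟨E.symm (QuotientGroup.mk 1), E.symm (QuotientGroup.mk H.w), ?_, ?_, ?_, ?_⟩
  · intro h
    exact Rk.mk_ne R.data (E.symm.injective h).symm
  · intro g
    rw [← Rk.mem_stab_one (H := H.borel), ← E.injective.eq_iff, hE, Equiv.apply_symm_apply]
  · intro g
    rw [← Rk.mem_stab_w (H := H.borel), ← E.injective.eq_iff, hE, Equiv.apply_symm_apply]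
  · intro x hx
    obtain ⟨s, hs⟩ := R.data.exists_eq (E x) (by
      intro h
      apply hx
      rw [← h, E.symm_apply_apply])
    obtain ⟨a, b, hab⟩ := (H.mem_unip_iff s.1).1 s.2
    refine ⟨a, b, ?_⟩
    apply E.injective
    rw [hE, Equiv.apply_symm_apply, ← hab]
    exact hs

variable {G : Type u} {Ω : Type v} [Group G] [MulAction G Ω] {T : Subgroup G} {m : ℕ}

/-- **Row `Sz(q)`**: `G = Sz(q)`. -/
theorem main (A : AS G Ω T) (H : Half G Ω m) (Z : Good F θ e) {k : ℕ} (hk : k ≠ 0) (hF : Nat.card F = 2 ^ k)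
    (f : T ≃* ↥(Cfsg.Lie.Sz F e)) (hn : Nat.card Ω = Nat.card F ^ 2 + 1) : T = ⊤ := by
  classical
  have := A.finG
  have := A.finΩ
  have := A.finT
  have := A.faithful
  have hTt := A.transitive
  have hTn := A.normal
  have hq : 2 ≤ Nat.card F := by
    rw [hF]
    calc 2 = 2 ^ 1 := rfl
      _ ≤ 2 ^ k := Nat.pow_le_pow_right (by norm_num) (by omega)
  -- the embedding
  let ι : ↥(Cfsg.Lie.Sz F e) →* G := T.subtype.comp f.symm.toMonoidHom
  have hιT : ∀ g, ι g ∈ T := fun g => (f.symm g).2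
  have hιinj : Function.Injective ι := fun x y h => f.symm.injective (Subtype.ext h)
  have hιsurj : ∀ t ∈ T, ∃ g, ι g = t := fun t ht => ⟨f ⟨t, ht⟩, by
    show ((f.symm (f ⟨t, ht⟩) : T) : G) = t
    rw [f.symm_apply_apply]⟩
  obtain ⟨a, b, hab, ha, hb, hall⟩ : ∃ a b : Ω, a ≠ b ∧ (∀ g : ↥(Cfsg.Lie.Sz F e), ι g • a = a ↔ g ∈ Z.borel) ∧
      (∀ g : ↥(Cfsg.Lie.Sz F e), ι g • b = b ↔ (Z.w)⁻¹ * g * Z.w ∈ Z.borel) ∧
      ∀ x : Ω, x ≠ a → ∃ s t : F, ι (Z.u s t) • b = x := by
    let act : MulAction ↥(Cfsg.Lie.Sz F e) Ω := MulAction.compHom Ω f.symm.toMonoidHom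
    have hX : IsPretransitive ↥(Cfsg.Lie.Sz F e) Ω := by
      refine ⟨fun x y => ?_⟩
      obtain ⟨t, ht⟩ := hTt.exists_smul_eq x y
      refine ⟨f t, ?_⟩
      show f.symm (f t) • x = y
      rw [f.symm_apply_apply, ht]
    exact exists_pts Z hk hF hX hn
  have hR := RkSz.rk Z hk hF
  -- regularity of the unipotent radical
  have hreg : ∀ s t s' t' : F, ι (Z.u s t) • b = ι (Z.u s' t') • b → s = s' ∧ t = t' := by
    intro s t s' t' h
    have h1 : ι ((Z.u s' t')⁻¹ * Z.u s t) • b = b := by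
      rw [map_mul, map_inv, mul_smul, h, inv_smul_smul]
    rw [hb] at h1
    have h2 := hR.data.inter _ (Z.unip.mul_mem (Z.unip.inv_mem (Z.u_mem_unip s' t')) (Z.u_mem_unip s t)) h1
    obtain ⟨h3, h4⟩ := Z.u_inj (inv_mul_eq_one.1 h2)
    exact ⟨h3.symm, h4.symm⟩
  have hua : ∀ s t : F, ι (Z.u s t) • a = a := fun s t => (ha _).2 (Z.u_mem_borel s t)
  -- conjugation by an element of `G_a`
  have hconj : ∀ g : G, g • a = a → ∀ s t : F, ∃ s' t' : F, g * ι (Z.u s t) * g⁻¹ = ι (Z.u s' t') ∧ (s = 0 → s' = 0) := by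
    intro g hg s t
    obtain ⟨h, hh⟩ := hιsurj _ (hTn.conj_mem _ (hιT (Z.u s t)) g)
    have hg' : g⁻¹ • a = a := by rw [inv_smul_eq_iff, hg]
    have h1 : h ∈ Z.borel := by
      rw [← ha, hh, mul_smul, mul_smul, hg', hua, hg]
    have hsq : Z.u s t * Z.u s t = Z.u 0 (s * θ s) := by
      rw [Z.u_mul, Z.add_self, Z.add_self, zero_add]
    have h4 : (Z.u s t) ^ 4 = 1 := by
      rw [pow_four_eq, hsq, Z.u_mul, Z.add_self, Z.add_self, zero_mul, add_zero, Z.u_zero]
    have h5 : h ^ 2 ^ 2 = 1 := by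
      apply hιinj
      rw [map_pow, hh, conj_pow, ← map_pow, show 2 ^ 2 = 4 by norm_num, h4, map_one, mul_one, mul_inv_cancel]
    obtain ⟨s', t', rfl⟩ := (Z.mem_unip_iff h).1 (hR.mem_of_pow h1 h5)
    refine ⟨s', t', hh.symm, ?_⟩
    rintro rfl
    have h6 : Z.u s' t' * Z.u s' t' = 1 := by
      apply hιinj
      rw [map_mul, hh]
      have h7 : g * ι (Z.u 0 t) * g⁻¹ * (g * ι (Z.u 0 t) * g⁻¹) = g * ι (Z.u 0 t * Z.u 0 t) * g⁻¹ := by
        rw [map_mul]; group
      rw [h7, hsq, zero_mul, Z.u_zero, map_one, mul_one, mul_inv_cancel]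
    rw [Z.u_mul, Z.add_self, Z.add_self, zero_add, ← Z.u_zero] at h6
    have h8 := (Z.u_inj h6).2
    rcases mul_eq_zero.1 h8 with h9 | h9
    · exact h9
    · exact (map_eq_zero θ).1 h9
  -- the torus
  have hdab : ∀ k : Fˣ, ι (Z.d k) • a = a ∧ ι (Z.d k) • b = b := by
    intro k
    refine ⟨(ha _).2 (Z.d_mem_borel k), (hb _).2 ?_⟩
    rw [RkSz.w_conj_d]
    exact Z.d_mem_borel _
  have htor : ∀ t ∈ T, t • a = a → t • b = b → ∃ k : Fˣ, t = ι (Z.d k) := by
    intro t ht h1 h2
    obtain ⟨g, rfl⟩ := hιsurj t ht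
    have h3 : g ∈ tor Z.borel Z.w := mem_tor.2 ⟨(ha g).1 h1, (hb g).1 h2⟩
    rw [RkSz.tor_eq] at h3
    obtain ⟨k, hk⟩ := h3
    exact ⟨k, by rw [← hk]; rfl⟩
  have hdu : ∀ (k : Fˣ) (s t : F), ι (Z.d k) * ι (Z.u s t) * (ι (Z.d k))⁻¹ =
      ι (Z.u (s * k ^ 2 * (θ k)⁻¹) (t * θ k)) := by
    intro k s t
    rw [← map_mul, Z.d_mul_u, map_mul, mul_inv_cancel_right]
  have hNN : Nat.card (NN T a b) = Nat.card F - 1 := by
    rw [← Nat.card_units]
    symm
    refine Nat.card_congr (Equiv.ofBijective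
      (fun k : Fˣ => (⟨ι (Z.d k), hιT _, mem_GG.2 (hdab k)⟩ : NN T a b)) ⟨?_, ?_⟩)
    · intro k l h
      exact Z.d_inj (hιinj (congrArg (fun z : NN T a b => (z : G)) h))
    · rintro ⟨t, ht1, ht2⟩
      have h := mem_GG.1 ht2
      obtain ⟨k, hk⟩ := htor t ht1 h.1 h.2
      exact ⟨k, Subtype.ext hk.symm⟩
  have hdx : ∀ (k : Fˣ) (s t : F), ι (Z.d k) • ι (Z.u s t) • b =
      ι (Z.u (s * k ^ 2 * (θ k)⁻¹) (t * θ k)) • b := by
    intro k s t
    rw [← hdu, mul_smul, mul_smul, inv_smul_eq_iff.2 (hdab k).2.symm]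
  have hfree : ∀ x, x ≠ a → x ≠ b → ∀ k : Fˣ, ι (Z.d k) • x = x → k = 1 := by
    intro x hxa hxb k hk
    obtain ⟨s, t, rfl⟩ := hall x hxa
    rw [hdx] at hk
    obtain ⟨h1, h2⟩ := hreg _ _ _ _ hk
    by_cases hs : s = 0
    · have ht : t ≠ 0 := by
        rintro rfl
        apply hxb
        rw [hs, Z.u_zero, map_one, one_smul]
      have h3 : θ (k : F) = 1 := mul_left_cancel₀ ht (by rw [h2, mul_one])
      exact Units.ext (θ.injective (by rw [h3, Units.val_one, map_one]))
    · apply RkSz.diag_ker Z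
      apply mul_left_cancel₀ hs
      rw [mul_one, ← mul_assoc]
      exact h1
  have hlen : ∀ x, x ≠ a → x ≠ b → Nat.card (orbit (NN T a b) x) = Nat.card F - 1 := by
    intro x hxa hxb
    have h1 : stabilizer (NN T a b) x = ⊥ := by
      rw [eq_bot_iff]
      intro t ht
      have h2 := mem_GG.1 t.2.2
      obtain ⟨k, hk⟩ := htor t.1 t.2.1 h2.1 h2.2
      have h3 : ι (Z.d k) • x = x := by rw [← hk]; exact ht
      have h4 := hfree x hxa hxb k h3
      rw [h4, Z.d_one, map_one] at hk
      exact Subtype.ext hk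
    have h2 := (stabilizer (NN T a b) x).index_mul_card
    rw [h1, Subgroup.card_bot, mul_one, ← h1, MulAction.index_stabilizer, hNN] at h2
    rwa [Nat.card_coe_set_eq]
  have hub : ∀ s t : F, ι (Z.u s t) • b ≠ a := by
    intro s t h
    apply hab
    rw [← hua s t] at h
    exact (smul_left_cancel _ h).symm
  have hgu : ∀ g : G, g • b = b → ∀ s t s' t' : F, g * ι (Z.u s t) * g⁻¹ = ι (Z.u s' t') →
      g • ι (Z.u s t) • b = ι (Z.u s' t') • b := by
    intro g hg s t s' t' h
    rw [← h, mul_smul, mul_smul, inv_smul_eq_iff.2 hg.symm]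
  have hm : m = Nat.card F - 1 := by
    let L : Set Ω := (fun t : F => ι (Z.u 0 t) • b) '' {t | t ≠ 0}
    have hLc : L.ncard = Nat.card F - 1 := by
      rw [Set.ncard_image_of_injective _ (fun t t' h => (hreg 0 t 0 t' h).2)]
      have h2 : ({x : F | x ≠ 0} : Set F) = ({0} : Set F)ᶜ := by
        ext x; simp
      rw [h2, Set.ncard_compl, Set.ncard_singleton]
    have hd : m ∣ L.ncard := by
      refine H.dvd_ncard hab L ?_ ?_
      · rintro _ ⟨t, ht, rfl⟩
        refine ⟨hub 0 t, fun h => ht ?_⟩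
        have h1 : ι (Z.u 0 t) • b = ι (Z.u 0 0) • b := by
          rw [Z.u_zero, map_one, one_smul]
          exact h
        exact (hreg _ _ _ _ h1).2
      · rintro g hga hgb _ ⟨t, ht, rfl⟩
        obtain ⟨s', t', h1, h2⟩ := hconj g hga 0 t
        obtain rfl := h2 rfl
        refine ⟨t', ?_, (hgu g hgb _ _ _ _ h1).symm⟩
        rintro rfl
        apply ht
        rw [Z.u_zero, map_one, mul_inv_eq_one, mul_eq_left, ← map_one ι] at h1
        have h3 := hιinj h1
        rw [← Z.u_zero] at h3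
        exact (Z.u_inj h3).2
    have h1 := Nat.le_of_dvd (by omega) hd
    have h3 : ι (Z.u 0 1) • b ≠ b := by
      intro h
      have h1 : ι (Z.u 0 1) • b = ι (Z.u 0 0) • b := by
        rw [Z.u_zero, map_one, one_smul]
        exact h
      exact one_ne_zero (hreg _ _ _ _ h1).2
    have h2 := H.le_of_le hab (hub 0 1) h3 (NN_le T a b)
    rw [hlen _ (hub 0 1) h3] at h2
    omega
  have horb : ∀ x, x ≠ a → x ≠ b → ∀ g : G, g • a = a → g • b = b → ∃ k : Fˣ, g • x = ι (Z.d k) • x := by
    intro x hxa hxb g hga hgb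
    have hsub : orbit (NN T a b) x ⊆ orbit (GG G a b) x := by
      rintro _ ⟨t, rfl⟩
      exact ⟨⟨t.1, t.2.2⟩, rfl⟩
    have heq : orbit (NN T a b) x = orbit (GG G a b) x := by
      apply Set.eq_of_subset_of_ncard_le hsub
      rw [← Nat.card_coe_set_eq, ← Nat.card_coe_set_eq, H.orb a b x hab hxa hxb, hlen x hxa hxb, hm]
    have hmem : g • x ∈ orbit (GG G a b) x := ⟨⟨g, mem_GG.2 ⟨hga, hgb⟩⟩, rfl⟩
    rw [← heq] at hmem
    obtain ⟨t, ht⟩ := hmem
    have h2 := mem_GG.1 t.2.2
    obtain ⟨k, hk⟩ := htor t.1 t.2.1 h2.1 h2.2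
    exact ⟨k, by rw [← hk]; exact ht.symm⟩
  have hkey : ∀ g : G, g • a = a → g • b = b → g • ι (Z.u 1 0) • b = ι (Z.u 1 0) • b → g = 1 := by
    intro g hga hgb hgc
    have hu1 : g * ι (Z.u 1 0) * g⁻¹ = ι (Z.u 1 0) := by
      obtain ⟨s', t', h1, -⟩ := hconj g hga 1 0
      rw [hgu g hgb _ _ _ _ h1] at hgc
      obtain ⟨h2, h3⟩ := hreg _ _ _ _ hgc
      rw [h1, h2, h3]
    have hz : ∀ t, g * ι (Z.u 0 t) * g⁻¹ = ι (Z.u 0 t) := by
      intro t
      obtain ⟨s', t', h1, h2⟩ := hconj g hga 0 t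
      obtain rfl := h2 rfl
      have h3 : ∀ r : F, Z.u 1 0 * Z.u 0 r = Z.u 1 r := by
        intro r
        rw [Z.u_mul, map_zero, mul_zero, add_zero, add_zero, zero_add]
      have h4 : g * ι (Z.u 1 t) * g⁻¹ = ι (Z.u 1 t') := by
        have h5 : g * ι (Z.u 1 t) * g⁻¹ = (g * ι (Z.u 1 0) * g⁻¹) * (g * ι (Z.u 0 t) * g⁻¹) := by
          rw [← h3 t, map_mul]; group
        rw [h5, hu1, h1, ← map_mul, h3]
      have h5 := hgu g hgb _ _ _ _ h4
      have h6 : ι (Z.u 1 t) • b ≠ b := by
        intro h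
        have h1 : ι (Z.u 1 t) • b = ι (Z.u 0 0) • b := by
          rw [Z.u_zero, map_one, one_smul]
          exact h
        exact one_ne_zero (hreg _ _ _ _ h1).1
      obtain ⟨k, hk⟩ := horb _ (hub 1 t) h6 g hga hgb
      rw [h5, hdx] at hk
      obtain ⟨h7, h8⟩ := hreg _ _ _ _ hk
      have h9 : k = 1 := by
        apply RkSz.diag_ker Z
        rw [h7, one_mul]
      rw [h1, h8, h9, Units.val_one, map_one, mul_one]
    have hd : ∀ k : Fˣ, g * ι (Z.d k) * g⁻¹ = ι (Z.d k) := by
      intro k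
      have hga' : g⁻¹ • a = a := by rw [inv_smul_eq_iff, hga]
      have hgb' : g⁻¹ • b = b := by rw [inv_smul_eq_iff, hgb]
      obtain ⟨l, hl⟩ := htor _ (hTn.conj_mem _ (hιT (Z.d k)) g)
        (by rw [mul_smul, mul_smul, hga', (hdab k).1, hga])
        (by rw [mul_smul, mul_smul, hgb', (hdab k).2, hgb])
      have h1 : ι (Z.d l) * ι (Z.u 0 1) * (ι (Z.d l))⁻¹ = ι (Z.u 0 (θ k)) := by
        have h2 : g⁻¹ * ι (Z.u 0 1) * g = ι (Z.u 0 1) := by
          have := hz 1
          nth_rw 1 [← this]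
          group
        have h3 : g * ι (Z.d k) * g⁻¹ * ι (Z.u 0 1) * (g * ι (Z.d k) * g⁻¹)⁻¹ =
            g * (ι (Z.d k) * (g⁻¹ * ι (Z.u 0 1) * g) * (ι (Z.d k))⁻¹) * g⁻¹ := by group
        rw [← hl, h3, h2, hdu, zero_mul, zero_mul, one_mul, hz]
      rw [hdu, zero_mul, zero_mul, one_mul] at h1
      have h2 := (Z.u_inj (hιinj h1)).2
      have h3 : l = k := Units.ext (θ.injective h2)
      rw [hl, h3]
    have hsur : Function.Surjective (fun k : Fˣ => ((Units.mk0 ((k : F) ^ 2 * (θ k)⁻¹)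
        (mul_ne_zero (pow_ne_zero _ k.ne_zero) (inv_ne_zero (theta_ne_zero θ k)))) : Fˣ)) := by
      apply Finite.injective_iff_surjective.1
      intro k l h
      have h1 : (k : F) ^ 2 * (θ k)⁻¹ = (l : F) ^ 2 * (θ l)⁻¹ := congrArg Units.val h
      have h2 : k * l⁻¹ = 1 := by
        apply RkSz.diag_ker Z
        rw [Units.val_mul, Units.val_inv_eq_inv_val, map_mul, map_inv₀, mul_pow, mul_inv, inv_inv]
        have h3 := theta_ne_zero θ k
        have h4 := theta_ne_zero θ l
        have h5 := l.ne_zero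
        field_simp at h1 ⊢
        linear_combination h1
      exact mul_inv_eq_one.1 h2
    have hal : ∀ s t : F, g * ι (Z.u s t) * g⁻¹ = ι (Z.u s t) := by
      intro s t
      by_cases hs : s = 0
      · rw [hs]; exact hz t
      obtain ⟨k, hk⟩ := hsur (Units.mk0 s hs)
      have hk' : (k : F) ^ 2 * (θ k)⁻¹ = s := congrArg Units.val hk
      have h1 : ι (Z.u s 0) = ι (Z.d k) * ι (Z.u 1 0) * (ι (Z.d k))⁻¹ := by
        rw [hdu, one_mul, zero_mul, hk']
      have h2 : Z.u s t = Z.u s 0 * Z.u 0 t := by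
        rw [Z.u_mul, map_zero, mul_zero, add_zero, add_zero, zero_add]
      have h3 : g * ι (Z.u s 0) * g⁻¹ = ι (Z.u s 0) := by
        have h4 : g * (ι (Z.d k) * ι (Z.u 1 0) * (ι (Z.d k))⁻¹) * g⁻¹ =
            (g * ι (Z.d k) * g⁻¹) * (g * ι (Z.u 1 0) * g⁻¹) * (g * ι (Z.d k) * g⁻¹)⁻¹ := by group
        rw [h1, h4, hd, hu1]
      have h4 : g * ι (Z.u s t) * g⁻¹ = (g * ι (Z.u s 0) * g⁻¹) * (g * ι (Z.u 0 t) * g⁻¹) := by
        rw [h2, map_mul]; group
      rw [h4, h3, hz, ← map_mul, ← h2]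
    apply FaithfulSMul.eq_of_smul_eq_smul (α := Ω)
    intro x
    rw [one_smul]
    by_cases hxa : x = a
    · rw [hxa, hga]
    · obtain ⟨s, t, rfl⟩ := hall x hxa
      exact hgu g hgb _ _ _ _ (hal s t)
  rw [eq_top_iff]
  intro g _
  obtain ⟨t1, ht1⟩ := hTt.exists_smul_eq (g • a) a
  have ht1' : ((t1 : G) * g) • a = a := by rw [mul_smul]; exact ht1
  have hne : ((t1 : G) * g) • b ≠ a := by
    intro h
    apply hab
    rw [← ht1'] at h
    exact (smul_left_cancel _ h).symm
  obtain ⟨s, t, hst⟩ := hall _ hne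
  have h2a : ((ι (Z.u s t))⁻¹ * ((t1 : G) * g)) • a = a := by
    rw [mul_smul, ht1', inv_smul_eq_iff, hua]
  have h2b : ((ι (Z.u s t))⁻¹ * ((t1 : G) * g)) • b = b := by
    rw [mul_smul, inv_smul_eq_iff, hst]
  have hc : ι (Z.u 1 0) • b ≠ b := by
    intro h
    have h1 : ι (Z.u 1 0) • b = ι (Z.u 0 0) • b := by
      rw [Z.u_zero, map_one, one_smul]
      exact h
    exact one_ne_zero (hreg _ _ _ _ h1).1
  obtain ⟨k, hk⟩ := horb _ (hub 1 0) hc _ h2a h2b
  have h3 := hkey ((ι (Z.d k))⁻¹ * ((ι (Z.u s t))⁻¹ * ((t1 : G) * g)))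
    (by rw [mul_smul, h2a, inv_smul_eq_iff, (hdab k).1])
    (by rw [mul_smul, h2b, inv_smul_eq_iff, (hdab k).2])
    (by rw [mul_smul, hk, inv_smul_smul])
  have h4 : g = (t1 : G)⁻¹ * (ι (Z.u s t) * ι (Z.d k)) := by
    have h5 : g = (t1 : G)⁻¹ * (ι (Z.u s t) * ι (Z.d k)) *
      ((ι (Z.d k))⁻¹ * ((ι (Z.u s t))⁻¹ * ((t1 : G) * g))) := by group
    rw [h3, mul_one] at h5
    exact h5
  rw [h4]
  exact T.mul_mem (T.inv_mem t1.2) (T.mul_mem (hιT _) (hιT _))

end Cfsg.Agent.H621.HalfT.Suz

namespace Cfsg.Agent.H621.HalfT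

open MulAction Cfsg.Agent.LieRecognition.SzMatrix
open Cfsg.Agent.H384.TwoTrans Cfsg.Agent.H386.HalfTwo

universe u v

variable {G : Type u} {Ω : Type v} [Group G] [MulAction G Ω] {T : Subgroup G} {m : ℕ}

theorem sz (A : AS G Ω T) (H : Half G Ω m) {F : Type} [Field F] [Fintype F] {k : ℕ} (hk : 1 ≤ k)
    (hF : Fintype.card F = 2 ^ (2 * k + 1)) (e : Nonempty (T ≃* ↥(Cfsg.Lie.Sz F (2 ^ (k + 1)))))
    (hn : Nat.card Ω = Fintype.card F ^ 2 + 1) : T = ⊤ ∨ m = 1 := by
  obtain ⟨e⟩ := e
  left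
  exact Suz.main A H (good hF) (k := 2 * k + 1) (by omega) (by rw [Nat.card_eq_fintype_card, hF]) e
    (by rw [hn, Nat.card_eq_fintype_card])

end Cfsg.Agent.H621.HalfT
end

-- part: H386/HalfTwo/Lin
section
set_option linter.all false
open scoped Cfsg.Agent.FastGrp

/-!
# `(2+1/2)`-transitive affine groups in characteristic two, linear form (helper386)

`LH G m` : `G ≤ GL(V)`, `V` over `ZMod 2`, transitive on the nonzero vectors, and all the orbits of `G_v` on the vectors
other than `0, v` have length `m`.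
-/

set_option autoImplicit false
set_option linter.unusedSectionVars false

namespace Cfsg.Agent.H386.HalfTwo

open Module MulAction

universe u

variable {V : Type u} [AddCommGroup V] [Module (ZMod 2) V] [Finite V] [Nontrivial V]

/-- the stabiliser of `v` in `G` -/
def St (G : Subgroup (V ≃ₗ[ZMod 2] V)) (v : V) : Subgroup (V ≃ₗ[ZMod 2] V) := G ⊓ stabilizer (V ≃ₗ[ZMod 2] V) v

theorem mem_St {G : Subgroup (V ≃ₗ[ZMod 2] V)} {v : V} {g : V ≃ₗ[ZMod 2] V} : g ∈ St G v ↔ g ∈ G ∧ g v = v := by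
  rw [St, Subgroup.mem_inf, mem_stabilizer_iff]
  rfl

/-- `(2+1/2)`-transitive linear groups -/
structure LH (G : Subgroup (V ≃ₗ[ZMod 2] V)) (m : ℕ) : Prop where
  tr : ∀ v w : V, v ≠ 0 → w ≠ 0 → ∃ g ∈ G, g v = w
  orb : ∀ v w : V, v ≠ 0 → w ≠ 0 → w ≠ v → Nat.card (orbit (St G v) w) = m

theorem finite_gl : Finite (V ≃ₗ[ZMod 2] V) := by
  have : Finite (V → V) := inferInstance
  exact Finite.of_injective (fun g : V ≃ₗ[ZMod 2] V => (g : V → V)) (fun g h hgh => by
    ext v; exact congrFun hgh v)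

variable {G : Subgroup (V ≃ₗ[ZMod 2] V)} {m : ℕ}

theorem mem_orbit_St {v w x : V} : x ∈ orbit (St G v) w ↔ ∃ g ∈ G, g v = v ∧ g w = x := by
  constructor
  · rintro ⟨g, rfl⟩
    exact ⟨g, (mem_St.1 g.2).1, (mem_St.1 g.2).2, rfl⟩
  · rintro ⟨g, hg, h1, rfl⟩
    exact ⟨⟨g, mem_St.2 ⟨hg, h1⟩⟩, rfl⟩

theorem ncard_compl {v : V} (hv : v ≠ 0) : ({x : V | x ≠ 0 ∧ x ≠ v} : Set V).ncard = Nat.card V - 2 := by
  have h1 : ({x : V | x ≠ 0 ∧ x ≠ v} : Set V) = ({0, v} : Set V)ᶜ := by
    ext x; simp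
  rw [h1, Set.ncard_compl, Set.ncard_pair hv.symm]

omit [Nontrivial V] in
theorem ncard_compl_zero : ({x : V | x ≠ 0} : Set V).ncard = Nat.card V - 1 := by
  have h1 : ({x : V | x ≠ 0} : Set V) = ({0} : Set V)ᶜ := by
    ext x; simp
  rw [h1, Set.ncard_compl, Set.ncard_singleton]

namespace LH

variable (H : LH G m)
include H

theorem dvd : m ∣ Nat.card V - 2 := by
  obtain ⟨v, hv⟩ := exists_ne (0 : V)
  rw [← ncard_compl hv]
  refine Cfsg.Agent.H488.ThreeHalf.dvd_ncard_of_orbits (St G v) _ ?_ ?_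
  · rintro g hg x ⟨hx1, hx2⟩
    rw [mem_St] at hg
    refine ⟨?_, ?_⟩
    · show g x ≠ 0
      exact fun h => hx1 ((map_eq_zero_iff g g.injective).1 h)
    · show g x ≠ v
      intro h
      apply hx2
      rw [← hg.2] at h
      exact g.injective h
  · intro x hx
    exact H.orb v x hv hx.1 hx.2

/-- `|G| = (|V| - 1) |G_v|` -/
theorem card_eq {v : V} (hv : v ≠ 0) : Nat.card G = (Nat.card V - 1) * Nat.card (St G v) := by
  have := finite_gl (V := V)
  have h1 : Nat.card (orbit G v) * Nat.card (stabilizer G v) = Nat.card G := by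
    rw [← Nat.card_prod]
    exact Nat.card_congr (orbitProdStabilizerEquivGroup G v)
  have h2 : orbit G v = {x : V | x ≠ 0} := by
    ext x
    constructor
    · rintro ⟨g, rfl⟩
      show (g : V ≃ₗ[ZMod 2] V) v ≠ 0
      exact fun h => hv ((map_eq_zero_iff (g : V ≃ₗ[ZMod 2] V) (g : V ≃ₗ[ZMod 2] V).injective).1 h)
    · intro hx
      obtain ⟨g, hg, h⟩ := H.tr v x hv hx
      exact ⟨⟨g, hg⟩, h⟩
  have h3 : Nat.card (stabilizer G v) = Nat.card (St G v) := by
    refine Nat.card_congr
      { toFun := fun g => ⟨g.1.1, mem_St.2 ⟨g.1.2, g.2⟩⟩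
        invFun := fun g => ⟨⟨g.1, (mem_St.1 g.2).1⟩, (mem_St.1 g.2).2⟩
        left_inv := fun _ => rfl
        right_inv := fun _ => rfl }
  rw [← h1, h2, h3, Nat.card_coe_set_eq, ncard_compl_zero]

/-- the group has odd order if `m` is odd -/
theorem two_dvd (h2 : 2 ∣ Nat.card G) (hV : Even (Nat.card V)) : 2 ∣ m := by
  classical
  have := finite_gl (V := V)
  have : Fact (Nat.Prime 2) := ⟨Nat.prime_two⟩
  have : Fintype V := Fintype.ofFinite V
  obtain ⟨t, ht⟩ := exists_prime_orderOf_dvd_card' (G := G) 2 h2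
  have ht2 : (t : V ≃ₗ[ZMod 2] V) * t = 1 := by
    have := pow_orderOf_eq_one t
    rw [ht, pow_two] at this
    exact congrArg Subtype.val this
  have htt : ∀ x : V, (t : V ≃ₗ[ZMod 2] V) ((t : V ≃ₗ[ZMod 2] V) x) = x := fun x => DFunLike.congr_fun ht2 x
  obtain ⟨v, hv⟩ : ∃ v, (t : V ≃ₗ[ZMod 2] V) v ≠ v := by
    by_contra hcon
    push Not at hcon
    have : t = 1 := by
      apply Subtype.ext
      ext v
      exact hcon v
    rw [this, orderOf_one] at ht
    exact absurd ht (by norm_num)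
  set w := (t : V ≃ₗ[ZMod 2] V) v with hw
  have hv0 : v ≠ 0 := by
    rintro rfl
    exact hv (map_zero _)
  have hw0 : w ≠ 0 := fun h => hv0 ((map_eq_zero_iff (t : V ≃ₗ[ZMod 2] V) (t : V ≃ₗ[ZMod 2] V).injective).1 h)
  let O : Finset (V × V) := Finset.univ.filter fun x => ∃ g ∈ G, g v = x.1 ∧ g w = x.2
  -- the size of `O`
  have hO : O.card = (Nat.card V - 1) * m := by
    have h1 : O = (Finset.univ.filter fun x : V => x ≠ 0).biUnion
        (fun x => O.filter fun y => y.1 = x) := by
      ext y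
      simp only [Finset.mem_biUnion, Finset.mem_filter, Finset.mem_univ, true_and]
      constructor
      · intro hy
        refine ⟨y.1, ?_, hy, rfl⟩
        obtain ⟨g, hg, h1, h2⟩ := (Finset.mem_filter.1 hy).2
        rw [← h1]
        exact fun h => hv0 ((map_eq_zero_iff g g.injective).1 h)
      · rintro ⟨x, hx, hy, -⟩
        exact hy
    rw [h1, Finset.card_biUnion]
    · have h2 : ∀ x ∈ (Finset.univ.filter fun x : V => x ≠ 0), (O.filter fun y => y.1 = x).card = m := by
        intro x hx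
        obtain ⟨g, hg, hgx⟩ := H.tr v x hv0 (Finset.mem_filter.1 hx).2
        rw [← H.orb v w hv0 hw0 hv, Nat.card_coe_set_eq, Set.ncard_eq_toFinset_card']
        refine (Finset.card_bij (fun y _ => (x, g y)) ?_ ?_ ?_).symm
        · intro y hy
          rw [Set.mem_toFinset, mem_orbit_St] at hy
          obtain ⟨h, hh, h3, h4⟩ := hy
          simp only [O, Finset.mem_filter, Finset.mem_univ, true_and, and_true]
          refine ⟨g * h, G.mul_mem hg hh, ?_, ?_⟩
          · show g (h v) = x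
            rw [h3, hgx]
          · show g (h w) = g y
            rw [h4]
        · intro y1 _ y2 _ h12
          exact g.injective (Prod.ext_iff.1 h12).2
        · rintro ⟨x', y'⟩ hy
          simp only [O, Finset.mem_filter, Finset.mem_univ, true_and] at hy
          obtain ⟨⟨k, hk, h3, h4⟩, rfl⟩ := hy
          refine ⟨g⁻¹ y', ?_, ?_⟩
          · rw [Set.mem_toFinset, mem_orbit_St]
            refine ⟨g⁻¹ * k, G.mul_mem (G.inv_mem hg) hk, ?_, ?_⟩
            · show g⁻¹ (k v) = v
              rw [h3, ← hgx]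
              exact g.symm_apply_apply v
            · show g⁻¹ (k w) = g⁻¹ y'
              rw [h4]
          · show (x', g (g⁻¹ y')) = (x', y')
            congr 1
            exact g.apply_symm_apply y'
      rw [Finset.sum_congr rfl h2, Finset.sum_const, smul_eq_mul]
      congr 1
      rw [← ncard_compl_zero, Set.ncard_eq_toFinset_card']
      congr 1
      ext x
      simp
    · intro x _ y _ hxy
      rw [Function.onFun, Finset.disjoint_left]
      intro z hz1 hz2
      exact hxy ((Finset.mem_filter.1 hz1).2.symm.trans (Finset.mem_filter.1 hz2).2)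
  have hpar : ((O.card : ℕ) : ZMod 2) = 0 := by
    rw [Finset.card_eq_sum_ones, Nat.cast_sum]
    refine Finset.sum_involution (fun y _ => (y.2, y.1)) ?_ ?_ ?_ ?_
    · intro y _
      exact CharTwo.add_self_eq_zero _
    · rintro ⟨x, y⟩ hy - h
      simp only [O, Finset.mem_filter, Finset.mem_univ, true_and] at hy
      obtain ⟨g, hg, h1, h2⟩ := hy
      have h3 : y = x := (Prod.ext_iff.1 h).1
      rw [← h1, ← h2] at h3
      exact hv (g.injective h3)
    · rintro ⟨x, y⟩ hy
      simp only [O, Finset.mem_filter, Finset.mem_univ, true_and] at hy ⊢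
      obtain ⟨g, hg, h1, h2⟩ := hy
      refine ⟨g * t, G.mul_mem hg t.2, ?_, ?_⟩
      · show g ((t : V ≃ₗ[ZMod 2] V) v) = y
        exact h2
      · show g ((t : V ≃ₗ[ZMod 2] V) w) = x
        rw [hw, htt, h1]
    · intro y _
      rfl
  rw [ZMod.natCast_eq_zero_iff, hO] at hpar
  rcases (Nat.Prime.dvd_mul Nat.prime_two).1 hpar with h | h
  · exfalso
    have : 1 ≤ Nat.card V := Nat.card_pos
    obtain ⟨k, hk⟩ := hV
    omega
  · exact h

/-- prime divisors of `|G_v|` are at most `m` -/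
theorem prime_le {v : V} (hv : v ≠ 0) {p : ℕ} (hp : p.Prime) (hd : p ∣ Nat.card (St G v)) : p ≤ m := by
  classical
  have := finite_gl (V := V)
  have := Fact.mk hp
  obtain ⟨x, hx⟩ := exists_prime_orderOf_dvd_card' p hd
  by_contra hcon
  push Not at hcon
  have h1 : (x : V ≃ₗ[ZMod 2] V) = 1 := by
    ext c
    show (x : V ≃ₗ[ZMod 2] V) c = c
    by_cases hc0 : c = 0
    · rw [hc0, map_zero]
    by_cases hcv : c = v
    · rw [hcv]; exact (mem_St.1 x.2).2
    have hz : Nat.card (orbit (Subgroup.zpowers (x : V ≃ₗ[ZMod 2] V)) c) ≤ m := by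
      rw [← H.orb v c hv hc0 hcv]
      refine Nat.card_mono (Set.toFinite _) ?_
      rintro _ ⟨n, rfl⟩
      exact ⟨⟨n, (Subgroup.zpowers_le.2 x.2) n.2⟩, rfl⟩
    have hdv : Nat.card (orbit (Subgroup.zpowers (x : V ≃ₗ[ZMod 2] V)) c) ∣ p := by
      have := Cfsg.Agent.H488.ThreeHalf.card_orbit_dvd_card (Subgroup.zpowers (x : V ≃ₗ[ZMod 2] V)) c
      rwa [Nat.card_zpowers, Subgroup.orderOf_coe, hx] at this
    rcases (Nat.dvd_prime hp).1 hdv with h | h
    · rw [Nat.card_eq_one_iff_unique] at h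
      have h2 : (⟨(x : V ≃ₗ[ZMod 2] V) • c, ⟨⟨x, Subgroup.mem_zpowers _⟩, rfl⟩⟩ :
          orbit (Subgroup.zpowers (x : V ≃ₗ[ZMod 2] V)) c) = ⟨c, mem_orbit_self c⟩ := h.1.elim _ _
      exact congrArg Subtype.val h2
    · omega
  have h2 : x = 1 := Subtype.ext h1
  rw [h2, orderOf_one] at hx
  exact hp.one_lt.ne hx

end LH

end Cfsg.Agent.H386.HalfTwo

private theorem dce_23ca95325851 : _root_.True := by
  try have : _root_.True := by simp only [_root_.Cfsg.Agent.H386.HalfTwo.St.eq_1]
  exact _root_.True.intro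
end

-- part: H386/HalfTwo/LinNat
section
prune_inst 0x400000
set_option linter.all false
open scoped Cfsg.Agent.FastGrp

/-!
# `(2+1/2)`-transitive affine groups in characteristic two: `SL`, `Sp`, `G₂` (helper386)
-/

set_option autoImplicit false
set_option linter.unusedSectionVars false

namespace Cfsg.Agent.H386.HalfTwo

open Module MulAction Cfsg.Agent.H50.Her

universe u

variable {V : Type u} [AddCommGroup V] [Module (ZMod 2) V] [Finite V] [Nontrivial V]
variable {G L : Subgroup (V ≃ₗ[ZMod 2] V)} {m : ℕ}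

/-- `G` is semilinear over `F = End_L(V)` -/
theorem exists_scalar {F : Type*} [Field F] [Module F V] (hnor : Nor G L)
    (hc : ∀ g ∈ L, ∀ (c : F) (v : V), g (c • v) = c • g v)
    (hend : ∀ f : V →ₗ[ZMod 2] V, (∀ g ∈ L, ∀ v, f (g v) = g (f v)) → ∃ c : F, ∀ v, f v = c • v)
    {g : V ≃ₗ[ZMod 2] V} (hg : g ∈ G) (c : F) : ∃ c' : F, ∀ x : V, g (c • x) = c' • g x := by
  let f0 : V →+ V :=
    { toFun := fun x => g (c • g⁻¹ x)
      map_zero' := by rw [map_zero, smul_zero, map_zero]
      map_add' := fun x y => by rw [map_add, smul_add, map_add] }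
  let f : V →ₗ[ZMod 2] V := f0.toZModLinearMap 2
  have hf : ∀ x, f x = g (c • g⁻¹ x) := fun x => rfl
  obtain ⟨c', hc'⟩ := hend f (by
    intro h hh v
    rw [hf, hf]
    have h1 : g⁻¹ * h * g ∈ L := by
      have := hnor g⁻¹ (G.inv_mem hg) h hh
      rwa [inv_inv] at this
    have h2 : g⁻¹ (h v) = (g⁻¹ * h * g) (g⁻¹ v) := by
      show g⁻¹ (h v) = g⁻¹ (h (g (g⁻¹ v)))
      rw [show g (g⁻¹ v) = v from g.apply_symm_apply v]
    rw [h2, ← hc _ h1]
    show g (g⁻¹ (h (g (c • g⁻¹ v)))) = h (g (c • g⁻¹ v))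
    exact g.apply_symm_apply _)
  refine ⟨c', fun x => ?_⟩
  have h1 := hc' (g x)
  rw [hf, show g⁻¹ (g x) = x from g.symm_apply_apply x] at h1
  exact h1

/-- there are at most `|F| - 2` points in the orbits on the line -/
theorem LH.le_card (H : LH G m) {F : Type*} [Field F] [Fintype F] [Module F V] (hF : 3 ≤ Fintype.card F)
    (hsc : ∀ g ∈ G, ∀ c : F, ∃ c' : F, ∀ x : V, g (c • x) = c' • g x) : m + 2 ≤ Fintype.card F := by
  classical
  obtain ⟨v, hv⟩ := exists_ne (0 : V)
  obtain ⟨c, hc0, hc1⟩ : ∃ c : F, c ≠ 0 ∧ c ≠ 1 := by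
    by_contra hcon
    push Not at hcon
    have h7 : (Finset.univ : Finset F) ⊆ {0, 1} := by
      intro x _
      by_cases hx : x = 0
      · simp [hx]
      · simp [hcon x hx]
    have h8 := Finset.card_le_card h7
    rw [Finset.card_univ, Finset.card_pair zero_ne_one] at h8
    omega
  have h1 := H.orb v (c • v) hv (smul_ne_zero hc0 hv) (by
    intro h
    apply hc1
    have : (c - 1) • v = 0 := by rw [sub_smul, h, one_smul, sub_self]
    rcases smul_eq_zero.1 this with h | h
    · exact sub_eq_zero.1 h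
    · exact absurd h hv)
  have h2 : orbit (St G v) (c • v) ⊆ (fun c : F => c • v) '' ((Finset.univ.erase 0).erase 1 : Finset F) := by
    intro x hx
    obtain ⟨g, hg, hgv, rfl⟩ := mem_orbit_St.1 hx
    obtain ⟨c', hc'⟩ := hsc g hg c
    have h3 := hc' v
    rw [hgv] at h3
    refine ⟨c', ?_, h3.symm⟩
    rw [Finset.mem_coe, Finset.mem_erase, Finset.mem_erase]
    refine ⟨?_, ?_, Finset.mem_univ _⟩
    · rintro rfl
      rw [one_smul] at h3
      have : g (c • v) = g v := by rw [h3, hgv]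
      have h4 := g.injective this
      apply hc1
      have : (c - 1) • v = 0 := by rw [sub_smul, h4, one_smul, sub_self]
      rcases smul_eq_zero.1 this with h | h
      · exact sub_eq_zero.1 h
      · exact absurd h hv
    · rintro rfl
      rw [zero_smul] at h3
      have h4 := (map_eq_zero_iff g g.injective).1 h3
      exact smul_ne_zero hc0 hv h4
  rw [Nat.card_coe_set_eq] at h1
  have h3 := Set.ncard_le_ncard h2 (Set.toFinite _)
  have h4 := Set.ncard_image_le (f := fun c : F => c • v) (s := (((Finset.univ.erase 0).erase 1 : Finset F) : Set F))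
    (Set.toFinite _)
  rw [Set.ncard_coe_finset, Finset.card_erase_of_mem (by simp), Finset.card_erase_of_mem (by simp),
    Finset.card_univ] at h4
  omega

/-- the orbit contains a full line -/
theorem LH.card_le (H : LH G m) {F : Type*} [Field F] [Fintype F] [Module F V] {v w : V} (hv : v ≠ 0) (hw : w ≠ 0)
    (hwv : w ≠ v) (h : ∀ c : F, ∃ g ∈ G, g v = v ∧ g w = w + c • v) : Fintype.card F ≤ m := by
  classical
  rw [← H.orb v w hv hw hwv, Nat.card_coe_set_eq]
  have h2 : (fun c : F => w + c • v) '' Set.univ ⊆ orbit (St G v) w := by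
    rintro _ ⟨c, -, rfl⟩
    obtain ⟨g, hg, h1, h2⟩ := h c
    exact mem_orbit_St.2 ⟨g, hg, h1, h2⟩
  have h3 := Set.ncard_le_ncard h2 (Set.toFinite _)
  rw [Set.ncard_image_of_injective, Set.ncard_univ, Nat.card_eq_fintype_card] at h3
  · exact h3
  · intro a b hab
    have h1 : a • v = b • v := add_left_cancel hab
    have : (a - b) • v = 0 := by rw [sub_smul, h1, sub_self]
    rcases smul_eq_zero.1 this with h | h
    · exact sub_eq_zero.1 h
    · exact absurd h hv

/-- the transvections of a symplectic space are isometries -/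
theorem symp_tr {F : Type*} [Field F] [Module F V] {f : LinearMap.BilinForm F V} (hf : f.IsAlt) (v : V) (c : F)
    (h : (c • f v) v = 0) (x y : V) :
    f (LinearEquiv.transvection h x) (LinearEquiv.transvection h y) = f x y := by
  rw [LinearEquiv.transvection.apply, LinearEquiv.transvection.apply]
  have h1 : f x v = - f v x := (LinearMap.BilinForm.IsAlt.neg_eq hf v x).symm
  simp only [map_add, map_smul, LinearMap.add_apply, LinearMap.smul_apply, smul_eq_mul, hf v, mul_zero, add_zero]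
  rw [h1]
  ring

/-- **the natural groups over `F`, `|F| ≥ 4`** do not occur -/
theorem LH.nat_big (H : LH G m) (hle : L ≤ G) (hnor : Nor G L) {F : Type} [Field F] [Fintype F] [Module F V]
    (hfr : 2 ≤ finrank F V) (hF : 3 ≤ Fintype.card F)
    (hc : ∀ g ∈ L, ∀ (c : F) (v : V), g (c • v) = c • g v)
    (hend : ∀ f : V →ₗ[ZMod 2] V, (∀ g ∈ L, ∀ v, f (g v) = g (f v)) → ∃ c : F, ∀ v, f v = c • v)
    (hG2 : Nat.card (Cfsg.Lie.chevG2.group F) = Fintype.card F ^ 6 * (Fintype.card F ^ 2 - 1) * (Fintype.card F ^ 6 - 1))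
    (hact : (∀ g : V ≃ₗ[F] V, LinearEquiv.det g = 1 ↔ ∃ h ∈ L, ∀ v, h v = g v) ∨
      (∃ f : LinearMap.BilinForm F V, f.IsAlt ∧ f.Nondegenerate ∧
        ∀ g : V ≃ₗ[F] V, (∀ u v, f (g u) (g v) = f u v) ↔ ∃ h ∈ L, ∀ v, h v = g v) ∨
      (finrank F V = 6 ∧ Nonempty (L ≃* Cfsg.Lie.chevG2.group F))) : False := by
  classical
  have hfgl := finite_gl (V := V)
  have hup := H.le_card hF (fun g hg c => exists_scalar hnor hc hend hg c)
  have hfd : FiniteDimensional F V := Module.finite_of_finrank_pos (by omega)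
  obtain ⟨v, hv⟩ := exists_ne (0 : V)
  rcases hact with h | ⟨f, hfa, hfn, h⟩ | ⟨h6, ⟨e⟩⟩
  · -- SL
    obtain ⟨w, hw⟩ : ∃ w, w ∉ Submodule.span F {v} := by
      by_contra hcon
      push Not at hcon
      have h1 : Submodule.span F {v} = ⊤ := by
        rw [eq_top_iff]
        exact fun x _ => hcon x
      have h2 := finrank_span_singleton (K := F) hv
      rw [h1, finrank_top] at h2
      omega
    obtain ⟨φ, hφw, hφ⟩ := Submodule.exists_dual_map_eq_bot_of_notMem hw inferInstance
    have hφv : φ v = 0 := by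
      have h1 : φ v ∈ (Submodule.span F {v}).map φ := ⟨v, Submodule.mem_span_singleton_self v, rfl⟩
      rw [hφ] at h1
      exact (Submodule.mem_bot F).1 h1
    have hw0 : w ≠ 0 := by
      rintro rfl
      exact hw (zero_mem _)
    have hwv : w ≠ v := by
      rintro rfl
      exact hw (Submodule.mem_span_singleton_self w)
    have h1 := H.card_le (F := F) hv hw0 hwv (by
      intro c
      have h2 : φ ((c * (φ w)⁻¹) • v) = 0 := by rw [map_smul, hφv, smul_zero]
      obtain ⟨g, hg, h3⟩ := (h (LinearEquiv.transvection h2)).1 (LinearEquiv.transvection.det_eq_one h2)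
      refine ⟨g, hle hg, ?_, ?_⟩
      · rw [h3, LinearEquiv.transvection.apply, hφv, zero_smul, add_zero]
      · rw [h3, LinearEquiv.transvection.apply, smul_smul, mul_comm c, ← mul_assoc, mul_inv_cancel₀ hφw, one_mul])
    omega
  · -- Sp
    obtain ⟨w, hw⟩ : ∃ w, f v w ≠ 0 := by
      by_contra hcon
      push Not at hcon
      exact hv (hfn.1 v hcon)
    have hw0 : w ≠ 0 := by
      rintro rfl
      exact hw (map_zero _)
    have hwv : w ≠ v := by
      rintro rfl
      exact hw (hfa w)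
    have h1 := H.card_le (F := F) hv hw0 hwv (by
      intro c
      have h2 : ((c * (f v w)⁻¹) • f v) v = 0 := by rw [LinearMap.smul_apply, hfa v, smul_zero]
      obtain ⟨g, hg, h3⟩ := (h (LinearEquiv.transvection h2)).1 (symp_tr hfa v _ h2)
      refine ⟨g, hle hg, ?_, ?_⟩
      · rw [h3, LinearEquiv.transvection.apply, h2, zero_smul, add_zero]
      · rw [h3, LinearEquiv.transvection.apply, LinearMap.smul_apply, smul_eq_mul, mul_assoc, inv_mul_cancel₀ hw,
          mul_one])
    omega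
  · -- G2
    have hb := Module.finBasisOfFinrankEq F V h6
    set q := Fintype.card F with hq
    -- upper bound for `|L_v|`
    have h1 : Nat.card (St L v) ≤ m ^ 6 := by
      have hm1 : 1 ≤ m := by
        obtain ⟨c, hc0, hc1⟩ : ∃ c : F, c ≠ 0 ∧ c ≠ 1 := by
          by_contra hcon
          push Not at hcon
          have h7 : (Finset.univ : Finset F) ⊆ {0, 1} := by
            intro x _
            by_cases hx : x = 0
            · simp [hx]
            · simp [hcon x hx]
          have h8 := Finset.card_le_card h7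
          rw [Finset.card_univ, Finset.card_pair zero_ne_one] at h8
          omega
        have h1 := H.orb v (c • v) hv (smul_ne_zero hc0 hv) (by
          intro h
          apply hc1
          have : (c - 1) • v = 0 := by rw [sub_smul, h, one_smul, sub_self]
          rcases smul_eq_zero.1 this with h | h
          · exact sub_eq_zero.1 h
          · exact absurd h hv)
        rw [← h1]
        exact Nat.card_pos_iff.2 ⟨⟨⟨_, mem_orbit_self _⟩⟩, inferInstance⟩
      have h2 : ∀ i : Fin 6, Nat.card (orbit (St G v) (hb i)) ≤ m := by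
        intro i
        by_cases h3 : hb i = v
        · rw [h3]
          have : orbit (St G v) v = {v} := by
            ext x
            rw [mem_orbit_St]
            constructor
            · rintro ⟨g, _, h4, rfl⟩
              exact h4
            · rintro rfl
              exact ⟨1, one_mem _, rfl, rfl⟩
          rw [this]
          simpa using hm1
        · exact (H.orb v _ hv (hb.ne_zero i) h3).le
      have h3 : Nat.card (St L v) ≤ Nat.card (∀ i : Fin 6, orbit (St G v) (hb i)) := by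
        refine Nat.card_le_card_of_injective (fun g : St L v => fun i =>
          (⟨(g : V ≃ₗ[ZMod 2] V) (hb i), ⟨⟨g, mem_St.2 ⟨hle (mem_St.1 g.2).1, (mem_St.1 g.2).2⟩⟩, rfl⟩⟩ :
            orbit (St G v) (hb i))) ?_
        intro g h hgh
        apply Subtype.ext
        have h4 : ∀ i, (g : V ≃ₗ[ZMod 2] V) (hb i) = (h : V ≃ₗ[ZMod 2] V) (hb i) := fun i =>
          congrArg Subtype.val (congrFun hgh i)
        ext x
        rw [← hb.sum_repr x, map_sum, map_sum]
        refine Finset.sum_congr rfl fun i _ => ?_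
        rw [hc _ (mem_St.1 g.2).1, hc _ (mem_St.1 h.2).1, h4]
      refine h3.trans ?_
      rw [Nat.card_pi]
      calc ∏ i : Fin 6, Nat.card (orbit (St G v) (hb i)) ≤ ∏ _i : Fin 6, m :=
            Finset.prod_le_prod (fun _ _ => Nat.zero_le _) (fun i _ => h2 i)
        _ = m ^ 6 := by simp
    -- lower bound
    have h2 : Nat.card L ≤ (Nat.card V - 1) * Nat.card (St L v) := by
      have h1 : Nat.card (orbit L v) * Nat.card (stabilizer L v) = Nat.card L := by
        rw [← Nat.card_prod]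
        exact Nat.card_congr (orbitProdStabilizerEquivGroup L v)
      have h2 : orbit L v ⊆ {x : V | x ≠ 0} := by
        rintro _ ⟨g, rfl⟩
        show (g : V ≃ₗ[ZMod 2] V) v ≠ 0
        exact fun h => hv ((map_eq_zero_iff (g : V ≃ₗ[ZMod 2] V) (g : V ≃ₗ[ZMod 2] V).injective).1 h)
      have h3 : Nat.card (stabilizer L v) = Nat.card (St L v) := by
        refine Nat.card_congr
          { toFun := fun g => ⟨g.1.1, mem_St.2 ⟨g.1.2, g.2⟩⟩
            invFun := fun g => ⟨⟨g.1, (mem_St.1 g.2).1⟩, (mem_St.1 g.2).2⟩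
            left_inv := fun _ => rfl
            right_inv := fun _ => rfl }
      rw [← h1, h3, Nat.card_coe_set_eq]
      refine Nat.mul_le_mul_right _ ?_
      rw [← ncard_compl_zero]
      exact Set.ncard_le_ncard h2 (Set.toFinite _)
    have h3 : Nat.card V = q ^ 6 := by
      rw [Module.natCard_eq_pow_finrank (K := F), h6, Nat.card_eq_fintype_card]
    rw [Nat.card_congr e.toEquiv, hG2, h3] at h2
    have h4 : q ^ 6 * (q ^ 2 - 1) ≤ Nat.card (St L v) := by
      have h5 : 0 < q ^ 6 - 1 := by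
        have : 1 < q ^ 6 := Nat.one_lt_pow (by norm_num) (by omega)
        omega
      refine Nat.le_of_mul_le_mul_left ?_ h5
      calc (q ^ 6 - 1) * (q ^ 6 * (q ^ 2 - 1)) = q ^ 6 * (q ^ 2 - 1) * (q ^ 6 - 1) := by ring
        _ ≤ _ := h2
    have h5 : m ^ 6 < q ^ 6 := Nat.pow_lt_pow_left (by omega) (by norm_num)
    have h6' : q ^ 6 ≤ q ^ 6 * (q ^ 2 - 1) := by
      refine Nat.le_mul_of_pos_right _ ?_
      have : 1 < q ^ 2 := Nat.one_lt_pow (by norm_num) (by omega)
      omega
    omega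

end Cfsg.Agent.H386.HalfTwo
end

-- part: H386/HalfTwo/LinSemi
section
set_option linter.all false
open scoped Cfsg.Agent.FastGrp

/-!
# `(2+1/2)`-transitive affine groups in characteristic two: semilinear groups of dimension one (helper386)
-/

set_option autoImplicit false
set_option linter.unusedSectionVars false

namespace Cfsg.Agent.H386.HalfTwo

open Module MulAction Cfsg.Agent.H50.Her

universe u

variable {V : Type u} [AddCommGroup V] [Module (ZMod 2) V] [Finite V] [Nontrivial V]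
variable {G : Subgroup (V ≃ₗ[ZMod 2] V)} {m : ℕ}

theorem char_two_of_equiv {F : Type*} [Field F] (e : V ≃+ F) : CharP F 2 := by
  apply CharTwo.of_one_ne_zero_of_two_eq_zero one_ne_zero
  have h : (e.symm 1 : V) + e.symm 1 = 0 := by
    have : (2 : ZMod 2) • (e.symm 1 : V) = 0 := by
      rw [show (2 : ZMod 2) = 0 from rfl, zero_smul]
    rwa [two_smul] at this
  have h2 := congrArg e h
  rw [map_add, map_zero, e.apply_symm_apply] at h2
  rw [← one_add_one_eq_two]
  exact h2

/-- the Galois part: a subgroup of the Galois group of a finite field over `ZMod 2` all whose orbits outside the prime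
field have the same length -/
theorem galois {F : Type*} [Field F] [Finite F] [Algebra (ZMod 2) F] (Γ : Subgroup (F ≃ₐ[ZMod 2] F)) {m : ℕ}
    (h3 : 2 < Nat.card F) (h : ∀ x : F, x ≠ 0 → x ≠ 1 → Nat.card (orbit Γ x) = m) (hne : Γ ≠ ⊥) :
    Γ = ⊤ ∧ (finrank (ZMod 2) F).Prime := by
  classical
  have hfin : Finite (F ≃ₐ[ZMod 2] F) := inferInstance
  have hinf : FiniteDimensional (ZMod 2) F := inferInstance
  -- a primitive element
  obtain ⟨y, hy⟩ : ∃ y : Fˣ, ∀ x : Fˣ, x ∈ Subgroup.zpowers y := IsCyclic.exists_generator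
  have hy1 : (y : F) ≠ 1 := by
    intro hy1
    have hy1' : y = 1 := Units.ext hy1
    have h5 : ∀ x : Fˣ, x = 1 := by
      intro x
      have := hy x
      rw [hy1', Subgroup.zpowers_one_eq_bot, Subgroup.mem_bot] at this
      exact this
    have h6 : ∀ x : F, x = 0 ∨ x = 1 := by
      intro x
      by_cases hx : x = 0
      · exact Or.inl hx
      · exact Or.inr (congrArg Units.val (h5 (Units.mk0 x hx)))
    have h7 : (Set.univ : Set F) ⊆ {0, 1} := by
      intro x _
      rcases h6 x with hx | hx <;> simp [hx]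
    have h8 := Set.ncard_le_ncard h7 (Set.toFinite _)
    rw [Set.ncard_univ, Set.ncard_pair zero_ne_one] at h8
    omega
  have hfy : ∀ σ : F ≃ₐ[ZMod 2] F, σ (y : F) = y → σ = 1 := by
    intro σ hσ
    ext x
    by_cases hx : x = 0
    · rw [hx, map_zero, map_zero]
    · obtain ⟨k, hk⟩ := Subgroup.mem_zpowers_iff.1 (hy (Units.mk0 x hx))
      have hx' : x = (y : F) ^ k := by
        have := congrArg Units.val hk
        rw [Units.val_zpow_eq_zpow_val] at this
        exact this.symm
      rw [hx', map_zpow₀, hσ]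
      rfl
  have hm : m = Nat.card Γ := by
    rw [← h y y.ne_zero hy1]
    have h1 : Nat.card (orbit Γ (y : F)) * Nat.card (stabilizer Γ (y : F)) = Nat.card Γ := by
      rw [← Nat.card_prod]
      exact Nat.card_congr (orbitProdStabilizerEquivGroup Γ (y : F))
    have h2 : stabilizer Γ (y : F) = ⊥ := by
      rw [eq_bot_iff]
      intro σ hσ
      rw [Subgroup.mem_bot]
      exact Subtype.ext (hfy σ.1 hσ)
    rw [h2, Subgroup.card_bot, mul_one] at h1
    exact h1
  -- nontrivial elements have no fixed points outside the prime field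
  have hfix : ∀ σ ∈ Γ, σ ≠ 1 → ∀ x : F, σ x = x → x = 0 ∨ x = 1 := by
    intro σ hσ hσ1 x hx
    by_contra hcon
    push Not at hcon
    have h1 := h x hcon.1 hcon.2
    have h2 : Nat.card (orbit Γ x) * Nat.card (stabilizer Γ x) = Nat.card Γ := by
      rw [← Nat.card_prod]
      exact Nat.card_congr (orbitProdStabilizerEquivGroup Γ x)
    rw [h1, hm] at h2
    have h3 : Nat.card (stabilizer Γ x) = 1 := by
      have : 0 < Nat.card Γ := Nat.card_pos
      exact Nat.eq_of_mul_eq_mul_left this (by rw [h2, mul_one])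
    have h4 : stabilizer Γ x = ⊥ := Subgroup.card_eq_one.1 h3
    have h5 : (⟨σ, hσ⟩ : Γ) ∈ stabilizer Γ x := hx
    rw [h4, Subgroup.mem_bot] at h5
    exact hσ1 (congrArg Subtype.val h5)
  have hord : ∀ σ ∈ Γ, σ ≠ 1 → orderOf σ = finrank (ZMod 2) F := by
    intro σ hσ hσ1
    have h1 : IntermediateField.fixedField (Subgroup.zpowers σ) = ⊥ := by
      rw [eq_bot_iff]
      intro x hx
      rw [IntermediateField.mem_fixedField_iff] at hx
      rcases hfix σ hσ hσ1 x (hx σ (Subgroup.mem_zpowers σ)) with rfl | rfl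
      · exact zero_mem _
      · exact one_mem _
    have h2 := IntermediateField.finrank_fixedField_eq_card (F := ZMod 2) (E := F) (H := Subgroup.zpowers σ)
    rw [Nat.card_zpowers, h1, IntermediateField.finrank_bot'] at h2
    exact h2.symm
  have hcard : Nat.card (F ≃ₐ[ZMod 2] F) = finrank (ZMod 2) F := IsGalois.card_aut_eq_finrank (ZMod 2) F
  have htop : Γ = ⊤ := by
    obtain ⟨⟨σ, hσ⟩, hσ1⟩ := Subgroup.ne_bot_iff_exists_ne_one.1 hne
    have hσ1' : σ ≠ 1 := fun h => hσ1 (Subtype.ext h)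
    have h1 := hord σ hσ hσ1'
    have h2 : Subgroup.zpowers σ = ⊤ := by
      rw [← Subgroup.card_eq_iff_eq_top, Nat.card_zpowers, h1, hcard]
    rw [eq_top_iff, ← h2]
    exact Subgroup.zpowers_le.2 hσ
  refine ⟨htop, ?_⟩
  have h1 : finrank (ZMod 2) F ≠ 1 := by
    intro h1
    apply hne
    rw [h1] at hcard
    rw [eq_bot_iff]
    intro x _
    have := Nat.card_eq_one_iff_unique.1 hcard
    rw [Subgroup.mem_bot]
    exact this.1.elim _ _
  obtain ⟨p, hp, hpd⟩ := Nat.exists_prime_and_dvd h1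
  have := Fact.mk hp
  obtain ⟨σ, hσ⟩ := exists_prime_orderOf_dvd_card' (G := F ≃ₐ[ZMod 2] F) p (by rw [hcard]; exact hpd)
  have h2 := hord σ (by rw [htop]; exact Subgroup.mem_top _) (by
    intro h
    rw [h, orderOf_one] at hσ
    exact hp.one_lt.ne hσ)
  rw [← h2, hσ]
  exact hp

/-- **semilinear groups of dimension one** -/
theorem LH.semi (H : LH G m) (hV : 2 < Nat.card V) (hS : SemiOut 2 V G) :
    m = 1 ∨ ∃ p : ℕ, p.Prime ∧ Nat.card V = 2 ^ p ∧ Nat.card G = (2 ^ p - 1) * p := by
  classical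
  have hfgl := finite_gl (V := V)
  obtain ⟨F, _, _, e, he⟩ := hS
  have hchar : CharP F 2 := char_two_of_equiv e
  let : Algebra (ZMod 2) F := ZMod.algebra F 2
  have hcard : Nat.card F = Nat.card V := (Nat.card_congr e.toEquiv).symm
  set v := e.symm 1 with hv
  have hv0 : v ≠ 0 := by
    intro h
    have := congrArg e h
    rw [hv, e.apply_symm_apply, map_zero] at this
    exact one_ne_zero this
  have hev : e v = 1 := e.apply_symm_apply 1
  have hex : ∀ g ∈ St G v, ∃ σ : F ≃+* F, ∀ x : V, e (g x) = σ (e x) := by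
    intro g hg
    obtain ⟨hgG, hgv⟩ := mem_St.1 hg
    obtain ⟨c, σ, h⟩ := he g hgG
    have h1 := h v
    rw [hgv, hev, map_one, mul_one] at h1
    exact ⟨σ, fun x => by rw [h x, ← h1, one_mul]⟩
  let Γ : Subgroup (F ≃ₐ[ZMod 2] F) :=
    { carrier := {σ | ∃ g ∈ St G v, ∀ x : V, e (g x) = σ (e x)}
      one_mem' := ⟨1, one_mem _, fun x => rfl⟩
      mul_mem' := by
        rintro σ τ ⟨g, hg, h1⟩ ⟨h, hh, h2⟩
        refine ⟨g * h, mul_mem hg hh, fun x => ?_⟩
        show e (g (h x)) = σ (τ (e x))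
        rw [h1, h2]
      inv_mem' := by
        rintro σ ⟨g, hg, h1⟩
        refine ⟨g⁻¹, inv_mem hg, fun x => ?_⟩
        have h2 := h1 (g⁻¹ x)
        have h3 : g (g⁻¹ x) = x := g.apply_symm_apply x
        rw [h3] at h2
        show e (g⁻¹ x) = σ.symm (e x)
        rw [h2, AlgEquiv.symm_apply_apply] }
  have hmemΓ : ∀ σ, σ ∈ Γ ↔ ∃ g ∈ St G v, ∀ x : V, e (g x) = σ (e x) := fun σ => Iff.rfl
  have hΓex : ∀ g ∈ St G v, ∃ σ ∈ Γ, ∀ x : V, e (g x) = σ (e x) := by
    intro g hg
    obtain ⟨σ, hσ⟩ := hex g hg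
    let σ' : F ≃ₐ[ZMod 2] F := AlgEquiv.ofRingEquiv (f := σ) (fun r => by
      have : (σ : F →+* F).comp (algebraMap (ZMod 2) F) = algebraMap (ZMod 2) F := RingHom.ext_zmod _ _
      exact DFunLike.congr_fun this r)
    exact ⟨σ', ⟨g, hg, fun x => hσ x⟩, fun x => hσ x⟩
  have hcardΓ : Nat.card Γ = Nat.card (St G v) := by
    refine (Nat.card_congr (Equiv.ofBijective
      (fun g : St G v => (⟨(hΓex g g.2).choose, (hΓex g g.2).choose_spec.1⟩ : Γ)) ⟨?_, ?_⟩)).symm
    · intro g h hgh
      have h1 := (hΓex g g.2).choose_spec.2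
      have h2 := (hΓex h h.2).choose_spec.2
      have h3 : (hΓex g g.2).choose = (hΓex h h.2).choose := congrArg Subtype.val hgh
      apply Subtype.ext
      ext x
      apply e.injective
      rw [h1, h2, h3]
    · rintro ⟨σ, g, hg, h1⟩
      refine ⟨⟨g, hg⟩, ?_⟩
      apply Subtype.ext
      ext x
      have h2 := (hΓex g hg).choose_spec.2 (e.symm x)
      have h3 := h1 (e.symm x)
      rw [e.apply_symm_apply] at h2 h3
      rw [← h3]
      exact h2.symm
  have horb : ∀ x : F, x ≠ 0 → x ≠ 1 → Nat.card (orbit Γ x) = m := by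
    intro x hx0 hx1
    have h1 := H.orb v (e.symm x) hv0 (by
      intro h
      apply hx0
      rw [← e.apply_symm_apply x, h, map_zero]) (by
      intro h
      apply hx1
      rw [← e.apply_symm_apply x, h, hev])
    rw [← h1]
    have h2 : orbit Γ x = e '' (orbit (St G v) (e.symm x)) := by
      ext z
      constructor
      · rintro ⟨⟨σ, g, hg, h3⟩, rfl⟩
        refine ⟨g (e.symm x), ⟨⟨g, hg⟩, rfl⟩, ?_⟩
        rw [h3, e.apply_symm_apply]
        rfl
      · rintro ⟨_, ⟨g, rfl⟩, rfl⟩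
        obtain ⟨σ, hσ, h3⟩ := hΓex g g.2
        refine ⟨⟨σ, hσ⟩, ?_⟩
        have h4 := h3 (e.symm x)
        rw [e.apply_symm_apply] at h4
        exact h4.symm
    rw [h2]
    exact Nat.card_image_of_injective e.injective _
  by_cases hΓ : Γ = ⊥
  · left
    -- some point outside
    obtain ⟨x, hx0, hx1⟩ : ∃ x : F, x ≠ 0 ∧ x ≠ 1 := by
      by_contra hcon
      push Not at hcon
      have h7 : (Set.univ : Set F) ⊆ {0, 1} := by
        intro x _
        by_cases hx : x = 0
        · simp [hx]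
        · simp [hcon x hx]
      have h8 := Set.ncard_le_ncard h7 (Set.toFinite _)
      rw [Set.ncard_univ, Set.ncard_pair zero_ne_one, hcard] at h8
      omega
    have h1 := horb x hx0 hx1
    have h2 : Nat.card Γ = 1 := by rw [hΓ, Subgroup.card_bot]
    have h3 := Cfsg.Agent.H488.ThreeHalf.card_orbit_dvd_card Γ x
    rw [h1, h2] at h3
    exact Nat.dvd_one.1 h3
  · right
    obtain ⟨h1, h2⟩ := galois Γ (by rw [hcard]; exact hV) horb hΓ
    refine ⟨finrank (ZMod 2) F, h2, ?_, ?_⟩
    · rw [← hcard, Module.natCard_eq_pow_finrank (K := ZMod 2), Nat.card_zmod]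
    · have h3 : Nat.card (F ≃ₐ[ZMod 2] F) = finrank (ZMod 2) F := IsGalois.card_aut_eq_finrank (ZMod 2) F
      rw [H.card_eq hv0, ← hcardΓ, h1, Subgroup.card_top, h3, ← hcard,
        Module.natCard_eq_pow_finrank (K := ZMod 2), Nat.card_zmod]

end Cfsg.Agent.H386.HalfTwo
end

-- part: H386/HalfTwo/LinMain
section
set_option linter.all false
open scoped Cfsg.Agent.FastGrp

/-!
# `(2+1/2)`-transitive affine groups in characteristic two: linear form, all cases (helper386)
-/

set_option autoImplicit false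
set_option linter.unusedSectionVars false

namespace Cfsg.Agent.H386.HalfTwo

open Module MulAction Cfsg.Agent.H50.Her

universe u

variable {V : Type u} [AddCommGroup V] [Module (ZMod 2) V] [Finite V] [Nontrivial V]
variable {G L : Subgroup (V ≃ₗ[ZMod 2] V)} {m : ℕ}

theorem two_cases {F : Type*} [Field F] [Fintype F] (hF : Fintype.card F = 2) (a : F) : a = 0 ∨ a = 1 := by
  classical
  by_contra hcon
  push Not at hcon
  have h1 : ({0, 1, a} : Finset F).card = 3 := by
    rw [Finset.card_eq_three]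
    exact ⟨0, 1, a, zero_ne_one, hcon.1.symm, hcon.2.symm, rfl⟩
  have h2 := Finset.card_le_univ ({0, 1, a} : Finset F)
  omega

/-- **the natural groups over the field with two elements** -/
theorem LH.nat_two (H : LH G m) (hle : L ≤ G) {F : Type} [Field F] [Fintype F] [Module F V]
    (hfr : 2 ≤ finrank F V) (hF : Fintype.card F = 2)
    (hact : (∀ g : V ≃ₗ[F] V, LinearEquiv.det g = 1 ↔ ∃ h ∈ L, ∀ v, h v = g v) ∨
      (∃ f : LinearMap.BilinForm F V, f.IsAlt ∧ f.Nondegenerate ∧
        ∀ g : V ≃ₗ[F] V, (∀ u v, f (g u) (g v) = f u v) ↔ ∃ h ∈ L, ∀ v, h v = g v)) : Nat.card V - 2 < 2 * m := by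
  classical
  have hfd : FiniteDimensional F V := Module.finite_of_finrank_pos (by omega)
  have h2c := two_cases hF
  have hchar : (2 : F) = 0 := by
    rcases h2c 2 with h | h
    · exact h
    · exfalso
      have h1 : (1 : F) + 1 = 0 + 1 := by rw [one_add_one_eq_two, h, zero_add]
      exact one_ne_zero (add_right_cancel h1)
  have hVV : ∀ x : V, x + x = 0 := by
    intro x
    rw [← two_smul F, hchar, zero_smul]
  have hVpos : 4 ≤ Nat.card V := by
    rw [Module.natCard_eq_pow_finrank (K := F), Nat.card_eq_fintype_card, hF]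
    calc 4 = 2 ^ 2 := by norm_num
      _ ≤ _ := Nat.pow_le_pow_right (by norm_num) hfr
  obtain ⟨v, hv⟩ := exists_ne (0 : V)
  rcases hact with h | ⟨f, hfa, hfn, h⟩
  · -- SL
    obtain ⟨w, hw⟩ : ∃ w, w ∉ Submodule.span F {v} := by
      by_contra hcon
      push Not at hcon
      have h1 : Submodule.span F {v} = ⊤ := by
        rw [eq_top_iff]
        exact fun x _ => hcon x
      have h2 := finrank_span_singleton (K := F) hv
      rw [h1, finrank_top] at h2
      omega
    have hw0 : w ≠ 0 := by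
      rintro rfl
      exact hw (zero_mem _)
    have hwv : w ≠ v := by
      rintro rfl
      exact hw (Submodule.mem_span_singleton_self w)
    have hspan : ∀ x : V, x ≠ 0 → x ≠ v → x ∉ Submodule.span F {v} := by
      intro x hx0 hxv hx
      obtain ⟨c, rfl⟩ := Submodule.mem_span_singleton.1 hx
      rcases h2c c with rfl | rfl
      · exact hx0 (zero_smul _ _)
      · exact hxv (one_smul _ _)
    have h1 : {x : V | x ≠ 0 ∧ x ≠ v} ⊆ orbit (St G v) w := by
      rintro x ⟨hx0, hxv⟩
      by_cases hxw : x = w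
      · rw [hxw]; exact mem_orbit_self _
      -- a functional with `φ v = 0`, `φ w = φ x = 1`
      obtain ⟨φ, hφv, hφw, hφx⟩ : ∃ φ : Dual F V, φ v = 0 ∧ φ w = 1 ∧ φ x = 1 := by
        obtain ⟨φ1, h1w, h1⟩ := Submodule.exists_dual_map_eq_bot_of_notMem hw inferInstance
        obtain ⟨φ2, h2x, h2⟩ := Submodule.exists_dual_map_eq_bot_of_notMem (hspan x hx0 hxv) inferInstance
        have h1v : φ1 v = 0 := by
          have h1' : φ1 v ∈ (Submodule.span F {v}).map φ1 := ⟨v, Submodule.mem_span_singleton_self v, rfl⟩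
          rw [h1] at h1'
          exact (Submodule.mem_bot F).1 h1'
        have h2v : φ2 v = 0 := by
          have h1' : φ2 v ∈ (Submodule.span F {v}).map φ2 := ⟨v, Submodule.mem_span_singleton_self v, rfl⟩
          rw [h2] at h1'
          exact (Submodule.mem_bot F).1 h1'
        have h1w' : φ1 w = 1 := (h2c _).resolve_left h1w
        have h2x' : φ2 x = 1 := (h2c _).resolve_left h2x
        rcases h2c (φ1 x) with h3 | h3
        · rcases h2c (φ2 w) with h4 | h4
          · refine ⟨φ1 + φ2, ?_, ?_, ?_⟩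
            · rw [LinearMap.add_apply, h1v, h2v, add_zero]
            · rw [LinearMap.add_apply, h1w', h4, add_zero]
            · rw [LinearMap.add_apply, h3, h2x', zero_add]
          · exact ⟨φ2, h2v, h4, h2x'⟩
        · exact ⟨φ1, h1v, h1w', h3⟩
      have h3 : φ (w + x) = 0 := by
        rw [map_add, hφw, hφx, one_add_one_eq_two, hchar]
      obtain ⟨g, hg, h4⟩ := (h (LinearEquiv.transvection h3)).1 (LinearEquiv.transvection.det_eq_one h3)
      refine mem_orbit_St.2 ⟨g, hle hg, ?_, ?_⟩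
      · rw [h4, LinearEquiv.transvection.apply, hφv, zero_smul, add_zero]
      · rw [h4, LinearEquiv.transvection.apply, hφw, one_smul, ← add_assoc, hVV, zero_add]
    have h2 := Set.ncard_le_ncard h1 (Set.toFinite _)
    rw [ncard_compl hv, ← Nat.card_coe_set_eq (orbit (St G v) w), H.orb v w hv hw0 hwv] at h2
    omega
  · -- Sp
    obtain ⟨w, hw⟩ : ∃ w, f v w ≠ 0 := by
      by_contra hcon
      push Not at hcon
      exact hv (hfn.1 v hcon)
    have hw1 : f v w = 1 := (h2c _).resolve_left hw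
    have hw0 : w ≠ 0 := by
      rintro rfl
      exact hw (map_zero _)
    have hwv : w ≠ v := by
      rintro rfl
      exact hw (hfa w)
    -- a step
    have hstep : ∀ x y : V, f v x = 1 → f v y = 1 → f x y = 1 → y ∈ orbit (St G v) x := by
      intro x y hx hy hxy
      have h2 : ((1 : F) • f (x + y)) (x + y) = 0 := by rw [LinearMap.smul_apply, hfa, smul_zero]
      obtain ⟨g, hg, h3⟩ := (h (LinearEquiv.transvection h2)).1 (symp_tr hfa (x + y) _ h2)
      refine mem_orbit_St.2 ⟨g, hle hg, ?_, ?_⟩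
      · rw [h3, LinearEquiv.transvection.apply, LinearMap.smul_apply, one_smul, map_add, LinearMap.add_apply]
        have h4 : f x v = - f v x := (LinearMap.BilinForm.IsAlt.neg_eq hfa v x).symm
        have h5 : f y v = - f v y := (LinearMap.BilinForm.IsAlt.neg_eq hfa v y).symm
        rw [h4, h5, hx, hy, ← neg_add, one_add_one_eq_two, hchar, neg_zero, zero_smul, add_zero]
      · rw [h3, LinearEquiv.transvection.apply, LinearMap.smul_apply, one_smul, map_add, LinearMap.add_apply, hfa x,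
          zero_add]
        have h4 : f y x = - f x y := (LinearMap.BilinForm.IsAlt.neg_eq hfa x y).symm
        have h5 : (-1 : F) = 1 := by
          rcases h2c (-1) with h | h
          · exact absurd (neg_eq_zero.1 h) one_ne_zero
          · exact h
        rw [h4, hxy, h5, one_smul, ← add_assoc, hVV, zero_add]
    have horb : ∀ x y z : V, y ∈ orbit (St G v) x → z ∈ orbit (St G v) y → z ∈ orbit (St G v) x := by
      rintro x y z ⟨g, rfl⟩ ⟨h, rfl⟩
      exact ⟨h * g, mul_smul _ _ _⟩
    have hadd : w + v ∈ orbit (St G v) w := by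
      have h2 : ((1 : F) • f v) v = 0 := by rw [LinearMap.smul_apply, hfa, smul_zero]
      obtain ⟨g, hg, h3⟩ := (h (LinearEquiv.transvection h2)).1 (symp_tr hfa v _ h2)
      refine mem_orbit_St.2 ⟨g, hle hg, ?_, ?_⟩
      · rw [h3, LinearEquiv.transvection.apply, h2, zero_smul, add_zero]
      · rw [h3, LinearEquiv.transvection.apply, LinearMap.smul_apply, one_smul, hw1, one_smul]
    have h1 : {x : V | f v x = 1} ⊆ orbit (St G v) w := by
      intro x hx
      have hx1 : f v x = 1 := hx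
      rcases h2c (f w x) with h3 | h3
      · -- not adjacent
        by_cases hxw : x = w
        · rw [hxw]; exact mem_orbit_self _
        by_cases hxv : x = w + v
        · rw [hxv]; exact hadd
        -- find z with `f v z = f w z = f x z = 1`
        obtain ⟨z, hz1, hz2, hz3⟩ : ∃ z, f v z = 1 ∧ f w z = 1 ∧ f x z = 1 := by
          have hx0 : x ≠ 0 := by
            rintro rfl
            rw [map_zero] at hx1
            exact zero_ne_one hx1
          have hvm : v ∉ Submodule.span F {v + w, v + x} := by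
            intro hm
            obtain ⟨a, b, hab⟩ := Submodule.mem_span_pair.1 hm
            rcases h2c a with rfl | rfl <;> rcases h2c b with rfl | rfl
            · rw [zero_smul, zero_smul, add_zero] at hab
              exact hv hab.symm
            · rw [zero_smul, one_smul, zero_add] at hab
              exact hx0 (by simpa using hab)
            · rw [zero_smul, one_smul, add_zero] at hab
              exact hw0 (by simpa using hab)
            · rw [one_smul, one_smul] at hab
              have h5 : v + w + (v + x) = w + x := by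
                have : v + w + (v + x) = (v + v) + (w + x) := by abel
                rw [this, hVV, zero_add]
              rw [h5] at hab
              apply hxv
              rw [← hab, ← add_assoc, hVV, zero_add]
          obtain ⟨ψ, hψv, hψ⟩ := Submodule.exists_dual_map_eq_bot_of_notMem hvm inferInstance
          have hψv1 : ψ v = 1 := (h2c _).resolve_left hψv
          have hzero : ∀ y ∈ Submodule.span F {v + w, v + x}, ψ y = 0 := by
            intro y hy
            have h1' : ψ y ∈ (Submodule.span F {v + w, v + x}).map ψ := ⟨y, hy, rfl⟩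
            rw [hψ] at h1'
            exact (Submodule.mem_bot F).1 h1'
          have hne : (-1 : F) = 1 := by
            rcases h2c (-1) with h | h
            · exact absurd (neg_eq_zero.1 h) one_ne_zero
            · exact h
          have hψw : ψ w = 1 := by
            have h6 := hzero (v + w) (Submodule.subset_span (by simp))
            rw [map_add, hψv1] at h6
            have : ψ w = -1 := (neg_eq_of_add_eq_zero_right h6).symm
            rw [this, hne]
          have hψx : ψ x = 1 := by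
            have h6 := hzero (v + x) (Submodule.subset_span (by simp))
            rw [map_add, hψv1] at h6
            have : ψ x = -1 := (neg_eq_of_add_eq_zero_right h6).symm
            rw [this, hne]
          refine ⟨(f.toDual hfn).symm ψ, ?_, ?_, ?_⟩
          · rw [(LinearMap.BilinForm.IsAlt.neg_eq hfa _ v).symm, LinearMap.BilinForm.apply_toDual_symm_apply, hψv1, hne]
          · rw [(LinearMap.BilinForm.IsAlt.neg_eq hfa _ w).symm, LinearMap.BilinForm.apply_toDual_symm_apply, hψw, hne]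
          · rw [(LinearMap.BilinForm.IsAlt.neg_eq hfa _ x).symm, LinearMap.BilinForm.apply_toDual_symm_apply, hψx, hne]
        have hzx : f z x = 1 := by
          rw [(LinearMap.BilinForm.IsAlt.neg_eq hfa x z).symm, hz3]
          rcases h2c (-1) with h | h
          · exact absurd (neg_eq_zero.1 h) one_ne_zero
          · exact h
        exact horb w z x (hstep w z hw1 hz1 hz2) (hstep z x hz1 hx1 hzx)
      · exact hstep w x hw1 hx1 h3
    -- counting
    have h2 := Set.ncard_le_ncard h1 (Set.toFinite _)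
    rw [← Nat.card_coe_set_eq (orbit (St G v) w), H.orb v w hv hw0 hwv] at h2
    have h3 : 2 * ({x : V | f v x = 1} : Set V).ncard = Nat.card V := by
      have h4 : (fun x => x + w) '' {x : V | f v x = 1} = {x : V | f v x = 1}ᶜ := by
        ext y
        simp only [Set.mem_image, Set.mem_ofPred_eq, Set.mem_compl_iff]
        constructor
        · rintro ⟨x, hx, rfl⟩
          rw [map_add, hx, hw1, one_add_one_eq_two, hchar]
          exact zero_ne_one
        · intro hy
          have hy0 : f v y = 0 := (h2c _).resolve_right hy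
          refine ⟨y + w, ?_, ?_⟩
          · rw [map_add, hy0, hw1, zero_add]
          · rw [add_assoc, hVV, add_zero]
      have h5 : ({x : V | f v x = 1}ᶜ : Set V).ncard = ({x : V | f v x = 1} : Set V).ncard := by
        rw [← h4, Set.ncard_image_of_injective _ (add_left_injective w)]
      have h6 := Set.ncard_add_ncard_compl ({x : V | f v x = 1} : Set V)
      omega
    omega

/-- **The linear form of the affine case in characteristic two.** -/
theorem LH.main (H : LH G m) (hV : 2 < Nat.card V)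
    (hG2 : ∀ (F : Type) [Field F] [Fintype F], Nat.card (Cfsg.Lie.chevG2.group F) =
      Fintype.card F ^ 6 * (Fintype.card F ^ 2 - 1) * (Fintype.card F ^ 6 - 1))
    (hU : ∀ (E : Type) [Field E] [Fintype E], Fintype.card E = 9 → Nat.card (Cfsg.PSU 3 E 3) = 6048)
    (hM : MainOut G (⊥ : Subgroup (V ≃ₗ[ZMod 2] V))) :
    m = 1 ∨ Nat.card V - 2 < 2 * m ∨ ∃ p : ℕ, p.Prime ∧ Nat.card V = 2 ^ p ∧ Nat.card G = (2 ^ p - 1) * p := by
  classical
  have hfgl := finite_gl (V := V)
  obtain ⟨v, hv⟩ := exists_ne (0 : V)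
  have hcardV : Nat.card V = 2 ^ finrank (ZMod 2) V := by
    rw [Module.natCard_eq_pow_finrank (K := ZMod 2), Nat.card_zmod]
  have heven : Even (Nat.card V) := by
    rw [hcardV, Nat.even_pow]
    refine ⟨even_two, ?_⟩
    intro h
    rw [h] at hcardV
    omega
  obtain ⟨A, -, -, h | h | ⟨L, b, hP, hQ, -, -, h⟩⟩ := hM
  · rcases H.semi hV h with h | h
    · exact Or.inl h
    · exact Or.inr (Or.inr h)
  · exfalso
    rcases h with h | h | h
    · exact absurd h.1 (by norm_num)
    · obtain ⟨-, h, -⟩ := h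
      rcases h with h | h | h | h <;> exact absurd h (by norm_num)
    · exact absurd h.2.1 (by norm_num)
  · rcases h with h | h
    · obtain ⟨F, _, _, _, hfr, hc, hend, hact⟩ := h
      by_cases hF : 3 ≤ Fintype.card F
      · exfalso
        refine H.nat_big hP.le hP.nor hfr hF hc hend (hG2 F) ?_
        rcases hact with h | h | h
        · exact Or.inl h
        · exact Or.inr (Or.inl h)
        · exact Or.inr (Or.inr ⟨h.2.1, h.2.2.2.1⟩)
      · have hF2 : Fintype.card F = 2 := by
          have : 1 < Fintype.card F := Fintype.one_lt_card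
          omega
        right; left
        refine H.nat_two hP.le hfr hF2 ?_
        rcases hact with h | h | h
        · exact Or.inl h
        · exact Or.inr h
        · exact absurd h.2.2.1 (by omega)
    · -- exceptional groups
      have hLd : Nat.card L ∣ Nat.card G := Subgroup.card_dvd_of_le hP.le
      have hGc := H.card_eq hv
      have hdv := H.dvd
      have key : ∀ d r : ℕ, finrank (ZMod 2) V = d → 2 ∣ Nat.card G → (3 * (2 ^ d - 1)) ∣ Nat.card G →
          3 ≤ m ∧ 2 ∣ m := by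
        intro d r hd h2 h3
        refine ⟨?_, H.two_dvd h2 heven⟩
        apply H.prime_le hv Nat.prime_three
        rw [hGc, hcardV, hd, mul_comm 3] at h3
        refine Nat.dvd_of_mul_dvd_mul_left ?_ h3
        rw [hcardV, hd] at hV
        omega
      rcases h with h | h | h | h
      · exfalso
        rcases h.1 with h | h
        · rcases h.2 with h | h | h | h <;> exact absurd h (by norm_num)
        · exact absurd h.2 (by norm_num)
      · obtain ⟨-, hd, -, h⟩ := h
        right; left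
        have h360 : 360 ∣ Nat.card L := by
          rcases h with ⟨⟨e⟩⟩ | ⟨⟨e⟩⟩
          · rw [Nat.card_congr e.toEquiv]
            rw [nat_card_alternatingGroup]
            simp [Nat.factorial]
          · rw [Nat.card_congr e.toEquiv]
            rw [nat_card_alternatingGroup]
            simp [Nat.factorial]
        have h360' := h360.trans hLd
        obtain ⟨h3, h2⟩ := key 4 0 hd ((by norm_num : 2 ∣ 360).trans h360') (by
          exact (by norm_num : (3 * (2 ^ 4 - 1)) ∣ 360).trans h360')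
        rw [hcardV, hd] at hdv ⊢
        norm_num at hdv ⊢
        have h14 : m ≤ 14 := Nat.le_of_dvd (by norm_num) hdv
        interval_cases m <;> omega
      · exact absurd h.1 (by norm_num)
      · obtain ⟨-, hd, -, E, _, _, hE, ⟨e⟩⟩ := h
        right; left
        have h6048 : 6048 ∣ Nat.card G := by
          rw [Nat.card_congr e.toEquiv, hU E hE] at hLd
          exact hLd
        obtain ⟨h3, h2⟩ := key 6 0 hd ((by norm_num : 2 ∣ 6048).trans h6048) (by
          exact (by norm_num : (3 * (2 ^ 6 - 1)) ∣ 6048).trans h6048)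
        rw [hcardV, hd] at hdv ⊢
        norm_num at hdv ⊢
        have h62 : m ≤ 62 := Nat.le_of_dvd (by norm_num) hdv
        interval_cases m <;> omega

end Cfsg.Agent.H386.HalfTwo
end

-- part: H386/HalfTwo/Affine
section
set_option linter.all false
open scoped Cfsg.Agent.FastGrp

/-!
# `(2+1/2)`-transitive affine groups (helper386)
-/

set_option autoImplicit false
set_option linter.unusedSectionVars false
set_option linter.style.haveILetI false

namespace Cfsg.Agent.H386.HalfTwo

open Module MulAction Cfsg.Agent.H50.Her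

universe u v

variable {G : Type u} {Ω : Type v} [Group G] [MulAction G Ω] {N : Subgroup G} {m : ℕ}

theorem smul_eq_iff_conj (hN : N.Normal) (hsr : ∀ x : Ω, ∀ n ∈ N, n • x = x → n = 1) {o : Ω} {h v w : G}
    (ho : h • o = o) (hv : v ∈ N) (hw : w ∈ N) : h • v • o = w • o ↔ h * v * h⁻¹ = w := by
  have h0 : h • v • o = (h * v * h⁻¹) • o := by
    rw [mul_smul, mul_smul, inv_smul_eq_iff.2 ho.symm]
  constructor
  · intro h1
    rw [h0] at h1
    have h2 : w⁻¹ * (h * v * h⁻¹) = 1 :=
      hsr o _ (N.mul_mem (N.inv_mem hw) (hN.conj_mem v hv h)) (by rw [mul_smul, h1, inv_smul_smul])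
    exact (inv_mul_eq_one.1 h2).symm
  · intro h1
    rw [h0, h1]

/-- odd characteristic -/
theorem affine_odd [Finite Ω] (hn : 3 ≤ Nat.card Ω) (H : Half G Ω m) (hN : N.Normal) (hN1 : N ≠ ⊥) {p : ℕ}
    (hp : p.Prime) (hp2 : p ≠ 2) (hexp : ∀ n ∈ N, n ^ p = 1)
    (hsr : ∀ x : Ω, ∀ n ∈ N, n • x = x → n = 1) : m = 1 := by
  have hnt : Nontrivial Ω := Finite.one_lt_card_iff_nontrivial.1 (by omega)
  have hne : Nonempty Ω := inferInstance
  obtain ⟨o⟩ := hne
  obtain ⟨⟨v, hv⟩, hv1'⟩ := Subgroup.ne_bot_iff_exists_ne_one.1 hN1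
  have hv1 : v ≠ 1 := fun h => hv1' (Subtype.ext h)
  have hvv : v * v ≠ 1 := by
    intro h
    have h1 : orderOf v ∣ 2 := orderOf_dvd_of_pow_eq_one (by rw [pow_two]; exact h)
    have h2 : orderOf v ∣ p := orderOf_dvd_of_pow_eq_one (hexp v hv)
    rcases (Nat.dvd_prime hp).1 h2 with h3 | h3
    · exact hv1 (orderOf_eq_one_iff.1 h3)
    · rw [h3] at h1
      exact hp2 ((Nat.prime_dvd_prime_iff_eq hp Nat.prime_two).1 h1)
  have h1 := H.orb o (v • o) ((v * v) • o) (fun h => hv1 (hsr o v hv h.symm))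
    (fun h => hvv (hsr o _ (N.mul_mem hv hv) h)) (by
      intro h
      apply hv1
      rw [mul_smul] at h
      exact hsr (v • o) v hv h)
  have h2 : orbit (GG G o (v • o)) ((v * v) • o) = {(v * v) • o} := by
    ext x
    constructor
    · rintro ⟨⟨g, hg⟩, rfl⟩
      have hg' := mem_GG.1 hg
      have h3 := (smul_eq_iff_conj hN hsr hg'.1 hv hv).1 hg'.2
      show g • (v * v) • o = (v * v) • o
      rw [smul_eq_iff_conj hN hsr hg'.1 (N.mul_mem hv hv) (N.mul_mem hv hv)]
      calc g * (v * v) * g⁻¹ = (g * v * g⁻¹) * (g * v * g⁻¹) := by group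
        _ = v * v := by rw [h3]
    · rintro rfl
      exact mem_orbit_self _
  rw [h2] at h1
  rw [← h1]
  simp

/-- **The affine case.** -/
theorem affine_two [Finite G] [Finite Ω] [FaithfulSMul G Ω] (h2 : IsMultiplyPretransitive G Ω 2)
    (hn : 3 ≤ Nat.card Ω) (H : Half G Ω m) (hN : N.Normal) (hc : ∀ x ∈ N, ∀ y ∈ N, x * y = y * x)
    (hexp : ∀ n ∈ N, n ^ 2 = 1)
    (htr : ∀ x y : Ω, ∃ n ∈ N, n • x = y) (hsr : ∀ x : Ω, ∀ n ∈ N, n • x = x → n = 1)
    (hG2 : ∀ (F : Type) [Field F] [Fintype F], Nat.card (Cfsg.Lie.chevG2.group F) =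
      Fintype.card F ^ 6 * (Fintype.card F ^ 2 - 1) * (Fintype.card F ^ 6 - 1))
    (hU : ∀ (E : Type) [Field E] [Fintype E], Fintype.card E = 9 → Nat.card (Cfsg.PSU 3 E 3) = 6048)
    (hM : ∀ (V : Type u) [AddCommGroup V] [Module (ZMod 2) V] [Finite V] [Nontrivial V]
      (G : Subgroup (V ≃ₗ[ZMod 2] V)), (∀ v w : V, v ≠ 0 → w ≠ 0 → ∃ g ∈ G, g v = w) →
      MainOut G (⊥ : Subgroup (V ≃ₗ[ZMod 2] V))) :
    m = 1 ∨ IsMultiplyPretransitive G Ω 3 ∨
      ∃ p : ℕ, p.Prime ∧ Nat.card Ω = 2 ^ p ∧ Nat.card G = 2 ^ p * (2 ^ p - 1) * p := by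
  classical
  have hnt : Nontrivial Ω := Finite.one_lt_card_iff_nontrivial.1 (by omega)
  obtain ⟨o⟩ : Nonempty Ω := inferInstance
  letI iC : CommGroup N := { (inferInstance : Group N) with mul_comm := fun x y => Subtype.ext (hc x x.2 y y.2) }
  let V := Additive N
  have hVz : ∀ x : V, 2 • x = 0 := by
    intro x
    have h1 : x.toMul ^ 2 = 1 := Subtype.ext (hexp _ x.toMul.2)
    exact congrArg Additive.ofMul h1
  letI iM : Module (ZMod 2) V := AddCommGroup.zmodModule hVz
  have hcardN : Nat.card N = Nat.card Ω := by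
    refine Nat.card_congr (Equiv.ofBijective (fun v : N => (v : G) • o) ⟨?_, ?_⟩)
    · intro v w h
      have h' : (v : G) • o = (w : G) • o := h
      have h1 : (w : G)⁻¹ * v = 1 := hsr o _ (N.mul_mem (N.inv_mem w.2) v.2) (by rw [mul_smul, h', inv_smul_smul])
      exact Subtype.ext (inv_mul_eq_one.1 h1).symm
    · intro x
      obtain ⟨n, hn, h⟩ := htr o x
      exact ⟨⟨n, hn⟩, h⟩
  have hcardV : Nat.card V = Nat.card Ω := hcardN
  have hfinV : Finite V := inferInstanceAs (Finite N)
  have hntV : Nontrivial V := Finite.one_lt_card_iff_nontrivial.1 (by rw [hcardV]; omega)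
  -- the linear representation
  let ρ : stabilizer G o →* (V ≃ₗ[ZMod 2] V) :=
    { toFun := fun g =>
        { (MulEquiv.toAdditive (MulAut.conjNormal (g : G) : N ≃* N)) with
          map_smul' := fun c x => ZMod.map_smul (MulEquiv.toAdditive (MulAut.conjNormal (g : G) : N ≃* N)) c x }
      map_one' := by
        apply LinearEquiv.ext
        intro x
        show Additive.ofMul ((MulAut.conjNormal ((1 : stabilizer G o) : G) : N ≃* N) x.toMul) = x
        rw [OneMemClass.coe_one, map_one]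
        rfl
      map_mul' := by
        intro g h
        apply LinearEquiv.ext
        intro x
        show Additive.ofMul ((MulAut.conjNormal ((g * h : stabilizer G o) : G) : N ≃* N) x.toMul) = _
        rw [Subgroup.coe_mul, map_mul]
        rfl }
  have hρ : ∀ (g : stabilizer G o) (n : N), (((ρ g (Additive.ofMul n)).toMul : N) : G) = (g : G) * n * (g : G)⁻¹ :=
    fun g n => MulAut.conjNormal_apply (g : G) n
  have hρi : Function.Injective ρ := by
    intro g k hgk
    apply Subtype.ext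
    apply FaithfulSMul.eq_of_smul_eq_smul (α := Ω)
    intro x
    obtain ⟨n, hn, rfl⟩ := htr o x
    have h1 : (g : G) * n * (g : G)⁻¹ = (k : G) * n * (k : G)⁻¹ := by
      rw [← hρ g ⟨n, hn⟩, ← hρ k ⟨n, hn⟩, hgk]
    rw [(smul_eq_iff_conj hN hsr g.2 hn (hN.conj_mem n hn (g : G))).2 rfl, h1,
      (smul_eq_iff_conj hN hsr k.2 hn (hN.conj_mem n hn (k : G))).2 rfl]
  let ψ : V → Ω := fun x => ((x.toMul : N) : G) • o
  have hψi : Function.Injective ψ := by
    intro x y h
    have h' : ((x.toMul : N) : G) • o = ((y.toMul : N) : G) • o := h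
    have h1 : ((y.toMul : N) : G)⁻¹ * ((x.toMul : N) : G) = 1 :=
      hsr o _ (N.mul_mem (N.inv_mem y.toMul.2) x.toMul.2) (by rw [mul_smul, h', inv_smul_smul])
    exact Additive.toMul.injective (Subtype.ext (inv_mul_eq_one.1 h1).symm)
  have hψ0 : ψ 0 = o := one_smul _ _
  have hψρ : ∀ (g : stabilizer G o) (x : V), ψ (ρ g x) = (g : G) • ψ x := by
    intro g x
    have h1 := hρ g x.toMul
    show (((ρ g x).toMul : N) : G) • o = (g : G) • ((x.toMul : N) : G) • o
    rw [(smul_eq_iff_conj hN hsr g.2 x.toMul.2 (hN.conj_mem _ x.toMul.2 (g : G))).2 rfl]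
    exact congrArg (fun z : G => z • o) h1
  have hLH : LH ρ.range m := by
    constructor
    · intro v w hv hw
      have h3 : ψ v ≠ o := fun h => hv (hψi (h.trans hψ0.symm))
      have h4 : ψ w ≠ o := fun h => hw (hψi (h.trans hψ0.symm))
      obtain ⟨g, g1, g2⟩ := Cfsg.Agent.H384.TwoTrans.two_pts h2 o (ψ v) o (ψ w) h3.symm h4.symm
      refine ⟨ρ ⟨g, g1⟩, ⟨_, rfl⟩, ?_⟩
      apply hψi
      rw [hψρ]
      exact g2
    · intro v w hv hw hwv
      have h3 : ψ v ≠ o := fun h => hv (hψi (h.trans hψ0.symm))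
      have h4 : ψ w ≠ o := fun h => hw (hψi (h.trans hψ0.symm))
      have h5 : ψ w ≠ ψ v := fun h => hwv (hψi h)
      rw [← H.orb o (ψ v) (ψ w) h3.symm h4 h5]
      have h6 : orbit (GG G o (ψ v)) (ψ w) = ψ '' (orbit (St ρ.range v) w) := by
        ext x
        constructor
        · rintro ⟨⟨g, hg⟩, rfl⟩
          have hg' := mem_GG.1 hg
          refine ⟨ρ ⟨g, hg'.1⟩ w, mem_orbit_St.2 ⟨_, ⟨_, rfl⟩, ?_, rfl⟩, ?_⟩
          · apply hψi
            rw [hψρ]
            exact hg'.2
          · rw [hψρ]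
            rfl
        · rintro ⟨y, hy, rfl⟩
          obtain ⟨_, ⟨g, rfl⟩, h7, rfl⟩ := mem_orbit_St.1 hy
          refine ⟨⟨g, mem_GG.2 ⟨g.2, ?_⟩⟩, ?_⟩
          · rw [← hψρ, h7]
          · exact (hψρ g w).symm
      rw [h6]
      exact (Nat.card_image_of_injective hψi _).symm
  rcases hLH.main (by rw [hcardV]; omega) hG2 hU (hM V ρ.range hLH.tr) with h | h | ⟨p, hp, h3, h4⟩
  · exact Or.inl h
  · right; left
    rw [hcardV] at h
    exact H.three_of_lt hn h2 h
  · right; right
    rw [hcardV] at h3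
    refine ⟨p, hp, h3, ?_⟩
    have h5 : Nat.card ρ.range = Nat.card (stabilizer G o) :=
      (Nat.card_congr (MonoidHom.ofInjective hρi).toEquiv).symm
    have htrG : IsPretransitive G Ω := ⟨fun x y => by
      obtain ⟨n, -, hn⟩ := htr x y
      exact ⟨n, hn⟩⟩
    have h6 : (stabilizer G o).index = Nat.card Ω := index_stabilizer_of_transitive G o
    rw [← (stabilizer G o).card_mul_index, ← h5, h4, h6, h3]
    ring

end Cfsg.Agent.H386.HalfTwo
end

-- part: H868/HalfM11
section
prune_inst 0x11307114550002000000058271003c26ee000590002b8401f5e00fc60e8fdfe3c9002f20fcb01f055b0aa3a4603b8060131000f9421000002a008200413d04a1842b72e6933cbd0437009fc0f887180c00000000000000000000000000041004200400000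
set_option linter.all false
open scoped Cfsg.Agent.FastGrp

/-!
# `(2+1/2)`-transitive groups (S3576): the rows `M₁₁` of degree 11 and 12 (helper868)
-/

set_option autoImplicit false
set_option linter.unusedSectionVars false

namespace Cfsg.Agent.H868.HalfM11

open MulAction Cfsg.Agent.H384.TwoTrans Cfsg.Agent.H386.HalfTwo

universe u v

variable {G : Type u} {Ω : Type v} [Group G] [MulAction G Ω] {T : Subgroup G} {m : ℕ}

theorem eq_top_of_inner (A : AS G Ω T) (inn : ∀ α : MulAut T, ∃ k, α = MulAut.conj k) : T = ⊤ := by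
  have := A.normal
  rw [eq_top_iff]
  intro g _
  obtain ⟨k, hk⟩ := inn (MulAut.conjNormal g)
  have h1 : (k : G)⁻¹ * g ∈ Subgroup.centralizer (T : Set G) := by
    rw [Subgroup.mem_centralizer_iff]
    intro t ht
    have h2 := congrArg (fun (α : MulAut T) => ((α ⟨t, ht⟩ : T) : G)) hk
    have h3 : g * t * g⁻¹ = k * t * (k : G)⁻¹ := by simpa using h2
    have h4 : g * t = k * t * (k : G)⁻¹ * g := by rw [← h3]; group
    have h5 : (k : G)⁻¹ * g * t = t * ((k : G)⁻¹ * g) := by
      rw [mul_assoc, h4]; group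
    exact h5.symm
  rw [A.cent, Subgroup.mem_bot] at h1
  have h2 : g = k := (inv_mul_eq_one.1 h1).symm
  rw [h2]
  exact k.2

theorem isM11 (A : AS G Ω T) (h : Cfsg.Spor.IsoM11 T) : Cfsg.IsM11 G := by
  have := A.finG
  have hT : T = ⊤ := eq_top_of_inner A (fun α =>
    Cfsg.Agent.SectRankFour.AutM11.exists_conj (Cfsg.Agent.UGT.End.MEleven.isM11 h) α)
  have e : T ≃* G := (MulEquiv.subgroupCongr hT).trans Subgroup.topEquiv
  have := A.simple
  have hs : IsSimpleGroup G := e.symm.isSimpleGroup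
  exact ⟨hs, by rw [← Nat.card_congr e.toEquiv, (Cfsg.Agent.UGT.End.MEleven.isM11 h).2]⟩

theorem ncard_fix_conj (g t : G) : ({c : Ω | (g * t * g⁻¹) • c = c} : Set Ω).ncard =
    ({c : Ω | t • c = c} : Set Ω).ncard := by
  have h1 : ({c : Ω | (g * t * g⁻¹) • c = c} : Set Ω) = (fun c => g • c) '' {c : Ω | t • c = c} := by
    ext c
    constructor
    · intro h
      refine ⟨g⁻¹ • c, ?_, smul_inv_smul _ _⟩
      show t • g⁻¹ • c = g⁻¹ • c
      rw [eq_inv_smul_iff, smul_smul, smul_smul]
      exact h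
    · rintro ⟨d, hd, rfl⟩
      have hd' : t • d = d := hd
      show (g * t * g⁻¹) • g • d = g • d
      rw [mul_smul, mul_smul, inv_smul_smul, hd']
  rw [h1, Set.ncard_image_of_injective _ (MulAction.injective g)]

section

variable [Finite G] [Finite Ω]

theorem mod_fix {p : ℕ} (hp : p.Prime) {y : G} (hyp : orderOf y = p) :
    Nat.card Ω ≡ ({c : Ω | y • c = c} : Set Ω).ncard [MOD p] := by
  have := Fact.mk hp
  have h1 : IsPGroup p (Subgroup.zpowers y) := IsPGroup.of_card (n := 1) (by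
    rw [Nat.card_zpowers, hyp, pow_one])
  have h2 := h1.card_modEq_card_fixedPoints Ω
  have h3 : fixedPoints (Subgroup.zpowers y) Ω = {c : Ω | y • c = c} := by
    ext c
    constructor
    · intro h
      exact h ⟨y, Subgroup.mem_zpowers y⟩
    · rintro h ⟨g, hg⟩
      obtain ⟨k, rfl⟩ := Subgroup.mem_zpowers_iff.1 hg
      have h4 : y ∈ stabilizer G c := h
      exact (Subgroup.zpow_mem _ h4 k : y ^ k ∈ stabilizer G c)
  rw [h3, Nat.card_coe_set_eq] at h2
  exact h2

theorem orderOf_conj (x y : G) : orderOf (y * x * y⁻¹) = orderOf x := by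
  have := orderOf_injective (MulAut.conj y).toMonoidHom (MulAut.conj y).injective x
  simpa using this

/-- the number of elements of order 3 of `M₁₁` -/
theorem ncard_three (hG : Cfsg.IsM11 G) {u : G} (hu : orderOf u = 3) : ({t : G | orderOf t = 3} : Set G).ncard = 440 := by
  have h1 := Cfsg.Agent.SporadicA.M11Facts2.card_centralizer_three hG hu
  have h3 := (Subgroup.centralizer ({u} : Set G)).index_mul_card
  rw [h1, hG.2] at h3
  have h2 : (Subgroup.centralizer ({u} : Set G)).index = ({t : G | orderOf t = 3} : Set G).ncard := by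
    have h5 : (Subgroup.centralizer ({u} : Set G)).index = (MulAction.orbit (ConjAct G) u).ncard := by
      rw [← MulAction.index_stabilizer, Subgroup.centralizer_eq_comap_stabilizer]
      exact Subgroup.index_comap_of_surjective _ ConjAct.toConjAct.surjective
    have h6 : orbit (ConjAct G) u = {t : G | orderOf t = 3} := by
      ext t
      rw [ConjAct.mem_orbit_conjAct]
      constructor
      · intro h
        obtain ⟨c, hc⟩ := isConj_iff.1 h
        show orderOf t = 3
        rw [← orderOf_conj t c, hc, hu]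
      · intro h
        exact Cfsg.Agent.SporadicA.M11Facts2.isConj_three hG h hu
    rw [h5, h6]
  omega

theorem count3 (hG : Cfsg.IsM11 G) (h2 : IsMultiplyPretransitive G Ω 2) {a b : Ω} (hab : a ≠ b) {u : G}
    (hu : orderOf u = 3) : 440 * (({c : Ω | u • c = c} : Set Ω).ncard * (({c : Ω | u • c = c} : Set Ω).ncard - 1)) =
      Nat.card Ω * (Nat.card Ω - 1) * ({t : G | orderOf t = 3 ∧ t • a = a ∧ t • b = b} : Set G).ncard := by
  rw [← ncard_three hG hu]
  refine fix_count ?_ {t : G | orderOf t = 3} ?_ ?_ hab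
  · rw [MulAction.is_two_pretransitive_iff] at h2
    intro a b c d h3 h4
    exact h2 h3 h4
  · intro t ht g
    show orderOf _ = 3
    rw [orderOf_conj]
    exact ht
  · intro t ht
    obtain ⟨g, rfl⟩ := isConj_iff.1 (Cfsg.Agent.SporadicA.M11Facts2.isConj_three hG hu ht)
    exact ncard_fix_conj g u

theorem ncard_le (a b : Ω) : ({t : G | orderOf t = 3 ∧ t • a = a ∧ t • b = b} : Set G).ncard + 1 ≤ Nat.card (GG G a b) := by
  have h2 : ({t : G | orderOf t = 3 ∧ t • a = a ∧ t • b = b} : Set G) ⊆ (GG G a b : Set G) \ {1} := by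
    rintro t ⟨h3, h4⟩
    refine ⟨mem_GG.2 h4, ?_⟩
    intro h
    rw [Set.mem_singleton_iff] at h
    subst h
    rw [orderOf_one] at h3
    omega
  have h3 := Set.ncard_le_ncard h2 (Set.toFinite _)
  rw [Set.ncard_sdiff_singleton_of_mem (one_mem _)] at h3
  have h4 : ((GG G a b : Set G)).ncard = Nat.card (GG G a b) := (Nat.card_coe_set_eq _).symm
  rw [h4] at h3
  have h5 : 0 < Nat.card (GG G a b) := Nat.card_pos
  omega

end

/-- **`M₁₁` of degree 11** -/
theorem m11 (A : AS G Ω T) (H : Half G Ω m) (h : Cfsg.Spor.IsoM11 T) (hn : Nat.card Ω = 11) :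
    m = 1 ∨ IsMultiplyPretransitive G Ω 3 := by
  classical
  have := A.finG
  have := A.finΩ
  have := A.faithful
  have hG := isM11 A h
  have hnt : Nontrivial Ω := Finite.one_lt_card_iff_nontrivial.1 (by omega)
  have hd := H.dvd
  rw [hn] at hd
  by_cases h9 : 5 ≤ m
  · exact Or.inr (H.three_of_lt (by omega) A.two (by omega))
  by_contra hcon
  push Not at hcon
  have hm : m = 3 := by
    have : m ≤ 4 := by omega
    interval_cases m <;> omega
  subst hm
  obtain ⟨a, b, hab⟩ := exists_pair_ne Ω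
  have hc := card_eq A.two hab
  rw [hG.2, hn] at hc
  have hc2 : Nat.card (GG G a b) = 72 := by omega
  obtain ⟨c, hca, hcb⟩ : ∃ c : Ω, c ≠ a ∧ c ≠ b := by
    by_contra hcon
    push Not at hcon
    have h1 : (Set.univ : Set Ω) ⊆ {a, b} := by
      intro x _
      by_cases hx : x = a
      · exact Or.inl hx
      · exact Or.inr (hcon x hx)
    have h2 := Set.ncard_le_ncard h1 (Set.toFinite _)
    rw [Set.ncard_univ, Set.ncard_pair hab] at h2
    omega
  have hC := H.orb a b c hab hca hcb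
  -- the kernel on the orbit of `c`
  let φ : GG G a b →* Equiv.Perm (orbit (GG G a b) c) := MulAction.toPermHom _ _
  have h1 : Nat.card φ.range ∣ 6 := by
    have := Subgroup.card_subgroup_dvd_card φ.range
    rwa [Nat.card_perm, hC] at this
  have h2 : Nat.card φ.ker * Nat.card φ.range = 72 := by
    rw [← hc2, ← Subgroup.index_ker, Subgroup.card_mul_index]
  have h3 : 3 ∣ Nat.card φ.ker := by
    have : Nat.card φ.range ≤ 6 := Nat.le_of_dvd (by norm_num) h1
    interval_cases hr : Nat.card φ.range <;> omega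
  have := Fact.mk Nat.prime_three
  obtain ⟨x, hx⟩ := exists_prime_orderOf_dvd_card' 3 h3
  have hx' : orderOf ((x : GG G a b) : G) = 3 := by
    rw [← hx, Subgroup.orderOf_coe, Subgroup.orderOf_coe]
  have h4 := count3 hG A.two hab hx'
  have h5 := ncard_le (G := G) a b
  rw [hn] at h4
  rw [hc2] at h5
  have h6 : insert a (insert b (orbit (GG G a b) c)) ⊆ ({c : Ω | ((x : GG G a b) : G) • c = c} : Set Ω) := by
    rintro y (rfl | rfl | hy)
    · exact (mem_GG.1 (x : GG G y b).2).1
    · exact (mem_GG.1 (x : GG G a y).2).2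
    · have h7 := x.2
      rw [MonoidHom.mem_ker] at h7
      have h8 := congrArg (fun σ : Equiv.Perm (orbit (GG G a b) c) => ((σ ⟨y, hy⟩ : orbit (GG G a b) c) : Ω)) h7
      exact h8
  have h7 := Set.ncard_le_ncard h6 (Set.toFinite _)
  have h8 : a ∉ insert b (orbit (GG G a b) c) := by
    rintro (h9 | h9)
    · exact hab h9
    · obtain ⟨g, hg⟩ := h9
      exact ne_of_smul (mem_GG.1 g.2).1 hca hg
  have h9 : b ∉ orbit (GG G a b) c := by
    rintro ⟨g, hg⟩
    exact ne_of_smul (mem_GG.1 g.2).2 hcb hg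
  rw [Set.ncard_insert_of_notMem h8, Set.ncard_insert_of_notMem h9, ← Nat.card_coe_set_eq (orbit (GG G a b) c), hC] at h7
  set f := ({c : Ω | ((x : GG G a b) : G) • c = c} : Set Ω).ncard with hf
  have h10 : 5 * 4 ≤ f * (f - 1) := Nat.mul_le_mul h7 (by omega)
  omega

/-- **`M₁₁` of degree 12** -/
theorem m11' (A : AS G Ω T) (H : Half G Ω m) (h : Cfsg.Spor.IsoM11 T) (hn : Nat.card Ω = 12) :
    m = 1 ∨ IsMultiplyPretransitive G Ω 3 := by
  classical
  have := A.finG
  have := A.finΩ
  have := A.faithful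
  have hG := isM11 A h
  have hnt : Nontrivial Ω := Finite.one_lt_card_iff_nontrivial.1 (by omega)
  have hd := H.dvd
  rw [hn] at hd
  by_cases h9 : 6 ≤ m
  · exact Or.inr (H.three_of_lt (by omega) A.two (by omega))
  by_contra hcon
  push Not at hcon
  obtain ⟨a, b, hab⟩ := exists_pair_ne Ω
  have hc := card_eq A.two hab
  rw [hG.2, hn] at hc
  have hc2 : Nat.card (GG G a b) = 60 := by omega
  have hm5 := H.prime_le hab Nat.prime_five (by rw [hc2]; norm_num)
  have hm : m = 5 := by omega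
  subst hm
  have := Fact.mk Nat.prime_three
  obtain ⟨x, hx⟩ := exists_prime_orderOf_dvd_card' (G := GG G a b) 3 (by rw [hc2]; norm_num)
  have hx' : orderOf (x : G) = 3 := by
    rw [← hx, Subgroup.orderOf_coe]
  have hP : IsPGroup 3 (Subgroup.zpowers (x : G)) := IsPGroup.of_card (n := 1) (by
    rw [Nat.card_zpowers, hx', pow_one])
  have hle : Subgroup.zpowers (x : G) ≤ GG G a b := by
    rw [Subgroup.zpowers_le]; exact x.2
  obtain ⟨c, hca, hcb⟩ : ∃ c : Ω, c ≠ a ∧ c ≠ b := by
    by_contra hcon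
    push Not at hcon
    have h1 : (Set.univ : Set Ω) ⊆ {a, b} := by
      intro x _
      by_cases hx : x = a
      · exact Or.inl hx
      · exact Or.inr (hcon x hx)
    have h2 := Set.ncard_le_ncard h1 (Set.toFinite _)
    rw [Set.ncard_univ, Set.ncard_pair hab] at h2
    omega
  have hC := H.orb a b c hab hca hcb
  obtain ⟨e, hea, heb, hec⟩ : ∃ e : Ω, e ≠ a ∧ e ≠ b ∧ e ∉ orbit (GG G a b) c := by
    by_contra hcon
    push Not at hcon
    have h1 : (Set.univ : Set Ω) ⊆ insert a (insert b (orbit (GG G a b) c)) := by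
      intro x _
      by_cases hx : x = a
      · exact Or.inl hx
      by_cases hx2 : x = b
      · exact Or.inr (Or.inl hx2)
      · exact Or.inr (Or.inr (hcon x hx hx2))
    have h2 := Set.ncard_le_ncard h1 (Set.toFinite _)
    have h3 := Set.ncard_insert_le a (insert b (orbit (GG G a b) c))
    have h4 := Set.ncard_insert_le b (orbit (GG G a b) c)
    rw [Set.ncard_univ] at h2
    rw [← Nat.card_coe_set_eq (orbit (GG G a b) c), hC] at h4
    omega
  obtain ⟨d, hd, hdx⟩ := H.exists_fix hab hca hcb Nat.prime_three (by norm_num) hP hle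
  obtain ⟨d', hd', hdx'⟩ := H.exists_fix hab hea heb Nat.prime_three (by norm_num) hP hle
  have hdx1 := hdx x (Subgroup.mem_zpowers _)
  have hdx2 := hdx' x (Subgroup.mem_zpowers _)
  have h4 := count3 hG A.two hab hx'
  have h5 := ncard_le (G := G) a b
  have h6 := mod_fix (Ω := Ω) Nat.prime_three hx'
  rw [hn] at h4 h6
  rw [hc2] at h5
  set f := ({c : Ω | (x : G) • c = c} : Set Ω).ncard with hf
  have hmov : ∀ y z : Ω, y ∈ orbit (GG G a b) z → z ≠ a → z ≠ b → y ≠ a ∧ y ≠ b := by
    rintro _ z ⟨g, rfl⟩ h1 h2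
    exact ⟨ne_of_smul (mem_GG.1 g.2).1 h1, ne_of_smul (mem_GG.1 g.2).2 h2⟩
  have h7 : ({a, b, d, d'} : Set Ω).ncard = 4 := by
    obtain ⟨e1, e2⟩ := hmov d c hd hca hcb
    obtain ⟨e3, e4⟩ := hmov d' e hd' hea heb
    have e5 : d ≠ d' := by
      rintro rfl
      apply hec
      rw [← orbit_eq_iff.2 hd, orbit_eq_iff.2 hd']
      exact mem_orbit_self _
    rw [Set.ncard_insert_of_notMem, Set.ncard_insert_of_notMem, Set.ncard_pair e5]
    · rintro (h | h)
      · exact e2 h.symm
      · exact e4 h.symm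
    · rintro (h | h | h)
      · exact hab h
      · exact e1 h.symm
      · exact e3 h.symm
  have h8 : ({a, b, d, d'} : Set Ω) ⊆ {c : Ω | (x : G) • c = c} := by
    rintro y (rfl | rfl | rfl | rfl)
    · exact (mem_GG.1 x.2).1
    · exact (mem_GG.1 x.2).2
    · exact hdx1
    · exact hdx2
  have h9 := Set.ncard_le_ncard h8 (Set.toFinite _)
  rw [h7] at h9
  have h10 : 6 ≤ f := by
    rw [Nat.ModEq] at h6
    omega
  have h11 : 6 * 5 ≤ f * (f - 1) := Nat.mul_le_mul h10 (by omega)
  omega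

end Cfsg.Agent.H868.HalfM11
end

-- part: H436/HalfHS
section
prune_inst 0x21307014712202000000058251003c66de000590002b8401f5a00fc60e8fdfe2c9002f20ce801d055a0aa38400310060021000f0401000000a000000011d00a0802b52061310ad0436009f803087180c00000000000000000000000000041004200000000
set_option linter.all false
open scoped Cfsg.Agent.FastGrp

/-!
# HUB H7 / S3576 ((2+1/2)-transitive groups), the row `HS`, `n = 176` (helper436)

`witt` : `G` 2-transitive, `x` of prime order `p` and `p²` does not divide the order of a stabiliser of two points: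
`f (f - 1) ∣ |N(⟨x⟩)|` where `f ≥ 2` is the number of the fixed points of `x`.
`hs` : `Half G Ω m`, `T = HS`, `n = 176` implies `m = 1`.
-/

set_option autoImplicit false

namespace Cfsg.Agent.H436.HalfHS

open MulAction Subgroup Cfsg.Agent.H384.TwoTrans Cfsg.Agent.H386.HalfTwo

universe u v

variable {G : Type u} {Ω : Type v} [Group G] [MulAction G Ω]

/-- `N(P)` acts on `Fix(P)` -/
def fixS (P : Subgroup G) : SubMulAction ↥(normalizer (P : Set G)) Ω where
  carrier := fixedPoints P Ω
  smul_mem' := by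
    intro g a ha
    rw [mem_fixedPoints] at ha ⊢
    rintro ⟨h, hh⟩
    have h1 : (g : G)⁻¹ * h * g ∈ P := by
      have := (mem_normalizer_iff'.1 g.2 ((g : G)⁻¹ * h)).2
      apply this
      simpa [mul_assoc] using hh
    have h2 := ha ⟨_, h1⟩
    have h3 : ((g : G)⁻¹ * h * g) • a = a := h2
    show h • ((g : G) • a) = (g : G) • a
    have h4 : h • ((g : G) • a) = (g : G) • (((g : G)⁻¹ * h * g) • a) := by
      rw [smul_smul, smul_smul]
      congr 1
      group
    rw [h4, h3]

/-- `N(⟨x⟩)` is 2-transitive on `Fix(x)` if `|x| = p` and `p²` does not divide the order of the stabilisers of two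
points. -/
theorem two_fixS [Finite G] (h2 : IsMultiplyPretransitive G Ω 2) {p : ℕ} (hp : p.Prime)
    (hsq : ∀ c d : Ω, c ≠ d → ¬ p ^ 2 ∣ Nat.card (GG G c d)) {x : G} (hx : orderOf x = p) :
    IsMultiplyPretransitive ↥(normalizer (zpowers x : Set G)) (fixS (Ω := Ω) (zpowers x)) 2 := by
  have := Fact.mk hp
  rw [is_two_pretransitive_iff] at h2 ⊢
  rintro ⟨a, ha⟩ ⟨b, hb⟩ ⟨c, hc⟩ ⟨d, hd⟩ hab hcd
  have hab' : a ≠ b := fun h => hab (Subtype.ext h)
  have hcd' : c ≠ d := fun h => hcd (Subtype.ext h)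
  obtain ⟨g, hg1, hg2⟩ := h2 hab' hcd'
  have fx : ∀ {e : Ω}, e ∈ fixS (zpowers x) → x • e = e := fun {e} he => he ⟨x, mem_zpowers x⟩
  let S : Subgroup G := GG G c d
  have hxS : x ∈ S := ⟨fx hc, fx hd⟩
  have hgxS : g * x * g⁻¹ ∈ S := by
    refine ⟨?_, ?_⟩
    · show (g * x * g⁻¹) • c = c
      rw [mul_smul, mul_smul, ← hg1, inv_smul_smul, fx ha]
    · show (g * x * g⁻¹) • d = d
      rw [mul_smul, mul_smul, ← hg2, inv_smul_smul, fx hb]
  have hxo : orderOf (⟨x, hxS⟩ : S) = p := by rw [← hx, ← Subgroup.orderOf_coe]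
  have hgo : orderOf (⟨g * x * g⁻¹, hgxS⟩ : S) = p := by
    rw [← Subgroup.orderOf_coe]
    show orderOf (g * x * g⁻¹) = p
    have := (MulAut.conj g).orderOf_eq x
    rw [MulAut.conj_apply] at this
    rw [this, hx]
  obtain ⟨h, hh⟩ := Cfsg.Agent.CpAutON.Gen.conj_into (hsq c d hcd') hgo hxo
  have hmem : (h : G) * g * x * ((h : G) * g)⁻¹ ∈ zpowers x := by
    obtain ⟨k, hk⟩ := hh
    refine ⟨k, ?_⟩
    have := congrArg Subtype.val hk
    simp only [coe_mul, coe_inv, coe_zpow] at this
    show x ^ k = _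
    rw [this]; group
  have hN : (h : G) * g ∈ normalizer (zpowers x : Set G) := by
    have h5 : (zpowers x).map (MulAut.conj ((h : G) * g)).toMonoidHom = zpowers x := by
      refine Subgroup.eq_of_le_of_card_ge ?_ ?_
      · rw [MonoidHom.map_zpowers, zpowers_le]; exact hmem
      · rw [← Nat.card_congr (equivMapOfInjective (zpowers x) _
          (MulAut.conj ((h : G) * g)).injective).toEquiv]
    rw [mem_normalizer_iff]
    intro z
    constructor
    · intro hz
      have : (h : G) * g * z * ((h : G) * g)⁻¹ ∈ (zpowers x).map (MulAut.conj ((h : G) * g)).toMonoidHom :=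
        ⟨z, hz, rfl⟩
      rwa [h5] at this
    · intro hz
      rw [← h5] at hz
      obtain ⟨w, hw, hwz⟩ := hz
      have : w = z := by
        simp only [MulEquiv.coe_toMonoidHom, MulAut.conj_apply] at hwz
        exact mul_left_cancel (mul_right_cancel hwz)
      rwa [← this]
  refine ⟨⟨_, hN⟩, Subtype.ext ?_, Subtype.ext ?_⟩
  · show ((h : G) * g) • a = c
    rw [mul_smul, hg1]
    exact h.2.1
  · show ((h : G) * g) • b = d
    rw [mul_smul, hg2]
    exact h.2.2

/-- **Witt's lemma, numerical form.** -/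
theorem witt [Finite G] [Finite Ω] (h2 : IsMultiplyPretransitive G Ω 2) {p : ℕ} (hp : p.Prime)
    (hsq : ∀ c d : Ω, c ≠ d → ¬ p ^ 2 ∣ Nat.card (GG G c d)) {x : G} (hx : orderOf x = p)
    (hf : 2 ≤ {a : Ω | x • a = a}.ncard) :
    {a : Ω | x • a = a}.ncard * ({a : Ω | x • a = a}.ncard - 1) ∣ Nat.card ↥(normalizer (zpowers x : Set G)) := by
  have h3 := two_fixS h2 hp hsq hx
  have hc : Nat.card (fixS (Ω := Ω) (zpowers x)) = {a : Ω | x • a = a}.ncard := by
    rw [← Nat.card_coe_set_eq]
    refine Nat.card_congr (Equiv.subtypeEquivRight fun a => ?_)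
    constructor
    · intro h
      exact h ⟨x, mem_zpowers x⟩
    · rintro h ⟨y, hy⟩
      have h4 : zpowers x ≤ stabilizer G a := by
        rw [zpowers_le]
        exact h
      exact h4 hy
  rw [← hc] at hf ⊢
  have hnt : Nontrivial (fixS (Ω := Ω) (zpowers x)) := Finite.one_lt_card_iff_nontrivial.1 (by omega)
  obtain ⟨a, b, hab⟩ := exists_pair_ne (fixS (Ω := Ω) (zpowers x))
  exact Dvd.intro _ (card_eq h3 hab).symm

/-- an element of order `7` normalising a subgroup of order `5` centralises it -/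
theorem comm_of_normalizer [Finite G] {x : G} (hx : orderOf x = 5)
    (h7 : 7 ∣ Nat.card ↥(normalizer (zpowers x : Set G))) : ∃ z : G, orderOf z = 7 ∧ Commute z x := by
  have : Fact (Nat.Prime 7) := ⟨by norm_num⟩
  obtain ⟨z, hz⟩ := exists_prime_orderOf_dvd_card' 7 h7
  refine ⟨z, by rw [Subgroup.orderOf_coe, hz], ?_⟩
  have hz7 : (z : G) ^ 7 = 1 := by rw [← hz, ← Subgroup.orderOf_coe, pow_orderOf_eq_one]
  have h1 : (z : G) * x * (z : G)⁻¹ ∈ zpowers x := (mem_normalizer_iff.1 z.2 x).1 (mem_zpowers x)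
  classical
  obtain ⟨k, hk⟩ : ∃ k, k < orderOf x ∧ x ^ k = (z : G) * x * (z : G)⁻¹ := by
    have h2 := (mem_zpowers_iff_mem_range_orderOf).1 h1
    simpa using h2
  have hk' : (z : G) * x * (z : G)⁻¹ = x ^ k := hk.2.symm
  have key : ∀ m : ℕ, (z : G) ^ m * x * ((z : G) ^ m)⁻¹ = x ^ k ^ m := by
    intro m
    induction m with
    | zero => simp
    | succ m ih =>
      have h2 : (z : G) ^ (m + 1) * x * ((z : G) ^ (m + 1))⁻¹ = (z : G) ^ m * ((z : G) * x * (z : G)⁻¹) * ((z : G) ^ m)⁻¹ := by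
        rw [pow_succ]; group
      rw [h2, hk', ← conj_pow, ih, ← pow_mul, ← pow_succ]
  have h3 := key 7
  rw [hz7, one_mul, inv_one, mul_one] at h3
  have h4 : x ^ 1 = x ^ k ^ 7 := by rw [pow_one]; exact h3
  rw [pow_inj_mod, hx] at h4
  have hk5 : k < 5 := by rw [← hx]; exact hk.1
  have h5 : k = 1 := by
    clear key hk' hk h3 h1
    interval_cases k
    · norm_num at h4
    · rfl
    · norm_num at h4
    · norm_num at h4
    · norm_num at h4
  rw [h5, pow_one] at hk'
  exact mul_inv_eq_iff_eq_mul.1 hk'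

variable {T : Subgroup G} {m : ℕ}

/-- at least `(n - 2) / m` points of `Ω ∖ {a, b}` are fixed -/
theorem le_fix [Finite G] [Finite Ω] (H : Half G Ω m) {a b : Ω} (hab : a ≠ b) {p : ℕ} (hp : p.Prime)
    (hm : ¬ p ∣ m) {x : G} (hx : orderOf x = p) (hxa : x • a = a) (hxb : x • b = b) :
    Nat.card Ω - 2 ≤ ({c : Ω | x • c = c}.ncard - 2) * m := by
  classical
  have : Fintype Ω := Fintype.ofFinite Ω
  have := Fact.mk hp
  have hP : IsPGroup p (zpowers x) := IsPGroup.of_card (n := 1) (by rw [Nat.card_zpowers, hx, pow_one])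
  have hle : zpowers x ≤ GG G a b := by
    rw [zpowers_le]
    exact ⟨hxa, hxb⟩
  set F : Finset Ω := Finset.univ.filter fun c => x • c = c ∧ c ≠ a ∧ c ≠ b with hF
  have h1 : Nat.card Ω - 2 ≤ F.card * m := by
    rw [← Cfsg.Agent.H488.ThreeHalf.ncard_compl_pair hab]
    have h2 : {y : Ω | y ≠ a ∧ y ≠ b} ⊆ ((F.biUnion fun d => (orbit (GG G a b) d).toFinset : Finset Ω) : Set Ω) := by
      rintro c ⟨hca, hcb⟩
      obtain ⟨d, hd, hdf⟩ := H.exists_fix hab hca hcb hp hm hP hle
      rw [Finset.mem_coe, Finset.mem_biUnion]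
      refine ⟨d, ?_, ?_⟩
      · rw [hF, Finset.mem_filter]
        refine ⟨Finset.mem_univ _, hdf x (mem_zpowers x), ?_, ?_⟩
        · obtain ⟨u, rfl⟩ := hd
          exact ne_of_smul (mem_GG.1 u.2).1 hca
        · obtain ⟨u, rfl⟩ := hd
          exact ne_of_smul (mem_GG.1 u.2).2 hcb
      · rw [Set.mem_toFinset]
        exact (orbit_eq_iff.2 hd).symm ▸ mem_orbit_self c
    refine (Set.ncard_le_ncard h2 (Set.toFinite _)).trans ?_
    rw [Set.ncard_coe_finset]
    refine Finset.card_biUnion_le_card_mul _ _ _ ?_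
    intro d hd
    rw [hF, Finset.mem_filter] at hd
    rw [← H.orb a b d hab hd.2.2.1 hd.2.2.2, Nat.card_eq_fintype_card, Set.toFinset_card]
  have h3 : F.card = {c : Ω | x • c = c}.ncard - 2 := by
    have h4 : ({c : Ω | x • c = c}) = insert a (insert b (F : Set Ω)) := by
      ext c
      simp only [Set.mem_ofPred_eq, Set.mem_insert_iff, hF, Finset.coe_filter, Finset.mem_univ, true_and]
      constructor
      · intro h
        by_cases h1 : c = a
        · exact Or.inl h1
        by_cases h2 : c = b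
        · exact Or.inr (Or.inl h2)
        exact Or.inr (Or.inr ⟨h, h1, h2⟩)
      · rintro (h | h | h)
        · rw [h]; exact hxa
        · rw [h]; exact hxb
        · exact h.1
    rw [h4, Set.ncard_insert_of_notMem, Set.ncard_insert_of_notMem, Set.ncard_coe_finset]
    · omega
    · simp [hF]
    · simp [hF, hab]
  rw [← h3]
  exact h1

theorem arith_f {f : ℕ} (h1 : 31 ≤ f) (h2 : f < 176) (h5 : f % 5 = 1) (h3 : f * (f - 1) ∣ 2 * 44352000) :
    7 ∣ f * (f - 1) := by
  revert h3 h2
  have : ∀ g, g < 176 → 31 ≤ g → g % 5 = 1 → g * (g - 1) ∣ 2 * 44352000 → 7 ∣ g * (g - 1) := by decide +kernel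
  exact fun h2 h3 => this f h2 h1 h5 h3

theorem card_mod [Finite G] [Finite Ω] {p : ℕ} (hp : p.Prime) {x : G} (hx : orderOf x = p) :
    Nat.card Ω ≡ {c : Ω | x • c = c}.ncard [MOD p] := by
  have := Fact.mk hp
  have hP : IsPGroup p (zpowers x) := IsPGroup.of_card (n := 1) (by rw [Nat.card_zpowers, hx, pow_one])
  have h1 := hP.card_modEq_card_fixedPoints Ω
  have h2 : fixedPoints (zpowers x) Ω = {c : Ω | x • c = c} := by
    ext c
    constructor
    · intro h
      exact h ⟨x, mem_zpowers x⟩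
    · rintro h ⟨y, hy⟩
      have h4 : zpowers x ≤ stabilizer G c := by
        rw [zpowers_le]
        exact h
      exact h4 hy
  rwa [h2, Nat.card_coe_set_eq] at h1

/-- **The row `HS`.** -/
theorem hs (A : AS G Ω T) (H : Half G Ω m) (h : Cfsg.Spor.IsoHS T) (hn : Nat.card Ω = 176) : m = 1 := by
  exfalso
  have := A.finG
  have := A.finΩ
  have := A.finT
  have := A.faithful
  have hT : Nat.card T = 44352000 := KFacts.HS.card h
  have hG : Nat.card G ∣ 2 * Nat.card ↥T := Cfsg.Agent.H970.TwoSpor.card_dvd A (by rw [KFacts.HS.index_inn h])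
  have hTG : Nat.card T ∣ Nat.card G := card_subgroup_dvd_card T
  rw [hT] at hG hTG
  have hnt : Nontrivial Ω := Finite.one_lt_card_iff_nontrivial.1 (by omega)
  have hG2 : Nat.card G = 44352000 ∨ Nat.card G = 2 * 44352000 := by
    obtain ⟨c, hc⟩ := hTG
    rw [hc] at hG ⊢
    have h1 : c ∣ 2 := by
      have h2 : 44352000 * c ∣ 44352000 * 2 := by rwa [mul_comm 44352000 2]
      exact Nat.dvd_of_mul_dvd_mul_left (by norm_num) h2
    rcases (Nat.dvd_prime Nat.prime_two).1 h1 with rfl | rfl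
    · left; norm_num
    · right; norm_num
  have hGG : ∀ a b : Ω, a ≠ b → Nat.card (GG G a b) = 1440 ∨ Nat.card (GG G a b) = 2880 := by
    intro a b hab
    have h1 := card_eq A.two hab
    rw [hn] at h1
    omega
  obtain ⟨a, b, hab⟩ := exists_pair_ne Ω
  have hm1 : m ∣ 174 := by
    have := H.dvd
    rwa [hn] at this
  have hm2 : m ∣ 2880 := by
    have h1 := H.dvd_GG (by omega) hab
    rcases hGG a b hab with h2 | h2 <;> rw [h2] at h1
    · exact h1.trans (by norm_num)
    · exact h1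
  have hm3 : m ∣ 6 := by
    have := Nat.dvd_gcd hm1 hm2
    simpa using this
  have h5 : 5 ∣ Nat.card (GG G a b) := by
    rcases hGG a b hab with h2 | h2 <;> rw [h2] <;> norm_num
  have hm4 : 5 ≤ m := H.prime_le hab (by norm_num) h5
  have hm5 : m = 6 := by
    have := Nat.le_of_dvd (by norm_num) hm3
    interval_cases m
    · omega
    · rfl
  subst hm5
  have : Fact (Nat.Prime 5) := ⟨by norm_num⟩
  obtain ⟨x, hx⟩ := exists_prime_orderOf_dvd_card' 5 h5
  have hx' : orderOf (x : G) = 5 := by rw [Subgroup.orderOf_coe, hx]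
  have hxx := mem_GG.1 x.2
  have hle := le_fix H hab (by norm_num : Nat.Prime 5) (by norm_num) hx' hxx.1 hxx.2
  rw [hn] at hle
  set f := {c : Ω | (x : G) • c = c}.ncard with hf
  have hf31 : 31 ≤ f := by omega
  have hfn : f < 176 := by
    rw [← hn, ← Set.ncard_univ]
    refine Set.ncard_lt_ncard ?_ (Set.toFinite _)
    rw [Set.ssubset_univ_iff]
    intro h1
    have h2 : (x : G) = 1 := by
      apply FaithfulSMul.eq_of_smul_eq_smul (α := Ω)
      intro c
      rw [one_smul]
      have : c ∈ {c : Ω | (x : G) • c = c} := by rw [h1]; exact Set.mem_univ _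
      exact this
    rw [h2, orderOf_one] at hx'
    norm_num at hx'
  have hf5 : f % 5 = 1 := by
    have h1 := card_mod (Ω := Ω) (by norm_num : Nat.Prime 5) hx'
    rw [hn] at h1
    exact h1.symm
  have hw := witt A.two (by norm_num : Nat.Prime 5) (fun c d hcd => by
    rcases hGG c d hcd with h2 | h2 <;> rw [h2] <;> norm_num) hx' (by omega)
  have h7 : 7 ∣ Nat.card ↥(normalizer (zpowers (x : G) : Set G)) :=
    (arith_f hf31 hfn hf5 (hw.trans ((card_subgroup_dvd_card _).trans hG))).trans hw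
  obtain ⟨z, hz, hzx⟩ := comm_of_normalizer hx' h7
  -- the elements `z` and `x` are in `T`
  have hsq : ∀ g : G, Odd (orderOf g) → g ∈ T := by
    intro g hg
    have hi : T.index ∣ 2 := by
      have h1 := T.card_mul_index
      rw [hT] at h1
      rcases hG2 with h2 | h2 <;> rw [h2] at h1
      · have : T.index = 1 := by omega
        rw [this]; norm_num
      · have : T.index = 2 := by omega
        rw [this]
    have := A.normal
    have h2 : ∀ y : G, y ^ 2 ∈ T := by
      intro y
      obtain ⟨c, hc⟩ := hi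
      rw [hc, pow_mul]
      exact T.pow_mem (T.pow_index_mem y) c
    obtain ⟨c, hc⟩ := hg
    have h3 : g = (g ^ (c + 1)) ^ 2 := by
      rw [← pow_mul, show (c + 1) * 2 = orderOf g + 1 by omega, pow_succ, pow_orderOf_eq_one, one_mul]
    rw [h3]
    exact h2 _
  have hzT : z ∈ T := hsq z (by rw [hz]; decide)
  have hxT : (x : G) ∈ T := hsq x (by rw [hx']; decide)
  have h8 := (Cfsg.Agent.H904.TwoHS.seven h (zpowers (⟨z, hzT⟩ : T)) (by
    rw [Nat.card_zpowers, ← Subgroup.orderOf_coe]
    exact hz)).1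
  have h9 : (⟨x, hxT⟩ : T) ∈ centralizer ((zpowers (⟨z, hzT⟩ : T) : Subgroup T) : Set T) := by
    rw [mem_centralizer_iff]
    rintro _ ⟨k, rfl⟩
    have : Commute (⟨z, hzT⟩ : T) (⟨x, hxT⟩ : T) := Subtype.ext hzx
    exact (this.zpow_left k).eq
  have h10 : 5 ∣ Nat.card ↥(centralizer ((zpowers (⟨z, hzT⟩ : T) : Subgroup T) : Set T)) := by
    have h11 := orderOf_dvd_natCard (⟨_, h9⟩ : ↥(centralizer ((zpowers (⟨z, hzT⟩ : T) : Subgroup T) : Set T)))
    rwa [← Subgroup.orderOf_coe, ← Subgroup.orderOf_coe, hx'] at h11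
  have h11 := h10.trans h8
  norm_num at h11

end Cfsg.Agent.H436.HalfHS
end

-- part: H970/HalfSpor
section
prune_inst 0x400000
set_option linter.all false
open scoped Cfsg.Agent.FastGrp

/-!
# S3576, rows `M₁₂`, `M₂₃`, `M₂₄`, `Co₃` (helper970)
-/

set_option autoImplicit false

namespace Cfsg.Agent.H970.HalfSpor

open MulAction Cfsg.Agent.H384.TwoTrans Cfsg.Agent.H386.HalfTwo Cfsg.Agent.H488.ThreeHalf Cfsg.Agent.H970.TwoSpor

universe u v

variable {G : Type u} {Ω : Type v} [Group G] [MulAction G Ω] {T : Subgroup G} {m : ℕ}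

/-- `m = 5` and `|G_ab| > 120` : then `25 ∣ |G_ab|` -/
theorem five_sq [Finite G] [Finite Ω] [FaithfulSMul G Ω] (hn : 3 ≤ Nat.card Ω) (H : Half G Ω 5) {a b : Ω} (hab : a ≠ b)
    (h : 120 < Nat.card (GG G a b)) : 25 ∣ Nat.card (GG G a b) := by
  classical
  obtain ⟨c, hc⟩ : ∃ c : Ω, c ≠ a ∧ c ≠ b := by
    by_contra hcon
    push Not at hcon
    have h1 := ncard_compl_pair hab
    have h2 : ({x : Ω | x ≠ a ∧ x ≠ b} : Set Ω) = ∅ := by
      ext x
      simp only [Set.mem_ofPred_eq, Set.mem_empty_iff_false, iff_false, not_and, not_not]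
      exact hcon x
    rw [h2, Set.ncard_empty] at h1
    omega
  have hO := H.orb a b c hab hc.1 hc.2
  set φ := MulAction.toPermHom (GG G a b) (orbit (GG G a b) c) with hφ
  set K : Subgroup G := φ.ker.map (GG G a b).subtype with hK
  have hKle : K ≤ GG G a b := Subgroup.map_subtype_le _
  have hKc : Nat.card K = Nat.card φ.ker :=
    (Nat.card_congr (Subgroup.equivMapOfInjective _ _ (GG G a b).subtype_injective).toEquiv).symm
  -- `|G_ab : K| ≤ 120`
  have hr : Nat.card φ.range ≤ 120 := by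
    have h1 : Nat.card φ.range ∣ Nat.card (Equiv.Perm (orbit (GG G a b) c)) := Subgroup.card_subgroup_dvd_card _
    rw [Nat.card_perm, hO] at h1
    exact Nat.le_of_dvd (by decide) h1
  have hm : Nat.card φ.range * Nat.card φ.ker = Nat.card (GG G a b) := by
    rw [← Subgroup.index_ker]
    exact Subgroup.index_mul_card _
  have hK1 : K ≠ ⊥ := by
    intro h1
    have h2 : Nat.card K = 1 := by rw [h1, Subgroup.card_bot]
    rw [hKc] at h2
    rw [h2, mul_one] at hm
    omega
  have hKn : ∀ g ∈ GG G a b, ∀ n, n ∈ K ↔ g * n * g⁻¹ ∈ K := by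
    have key : ∀ g ∈ GG G a b, ∀ n, n ∈ K → g * n * g⁻¹ ∈ K := by
      rintro g hg _ ⟨n, hn, rfl⟩
      exact ⟨(⟨g, hg⟩ * n * ⟨g, hg⟩⁻¹ :), φ.normal_ker.conj_mem n hn _, rfl⟩
    intro g hg n
    refine ⟨key g hg n, fun h => ?_⟩
    have h1 := key g⁻¹ ((GG G a b).inv_mem hg) _ h
    rwa [inv_inv, show g⁻¹ * (g * n * g⁻¹) * g = n by group] at h1
  -- `5 ∣ |K|`
  have h5 : 5 ∣ Nat.card K := by
    obtain ⟨⟨k, hk⟩, hk1⟩ := (Subgroup.ne_bot_iff_exists_ne_one).1 hK1
    have hk1' : k ≠ 1 := fun h => hk1 (Subtype.ext h)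
    obtain ⟨d, hd⟩ : ∃ d : Ω, k • d ≠ d := by
      by_contra hcon
      push Not at hcon
      exact hk1' (FaithfulSMul.eq_of_smul_eq_smul (α := Ω) fun x => by rw [hcon x, one_smul])
    have hkG := mem_GG.1 (hKle hk)
    have hda : d ≠ a := fun h => hd (by rw [h, hkG.1])
    have hdb : d ≠ b := fun h => hd (by rw [h, hkG.2])
    have h1 := H.dvd_of_normal hab hda hdb hKle hKn
    rcases (Nat.dvd_prime (by norm_num)).1 h1 with h2 | h2
    · exfalso
      apply hd
      rw [Nat.card_eq_one_iff_unique] at h2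
      have h3 : (⟨k • d, ⟨⟨k, hk⟩, rfl⟩⟩ : orbit K d) = ⟨d, mem_orbit_self d⟩ := h2.1.elim _ _
      exact congrArg Subtype.val h3
    · rw [← h2]
      exact card_orbit_dvd_card K d
  -- `5 ∣ |G_ab : K|`
  have h5' : 5 ∣ Nat.card φ.range := by
    have htr : IsPretransitive φ.range (orbit (GG G a b) c) := by
      refine ⟨fun x y => ?_⟩
      obtain ⟨g, hg⟩ := exists_smul_eq (GG G a b) x y
      exact ⟨⟨φ g, g, rfl⟩, hg⟩
    have h1 := MulAction.index_stabilizer_of_transitive φ.range (⟨c, mem_orbit_self c⟩ : orbit (GG G a b) c)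
    rw [hO] at h1
    rw [← h1]
    exact Subgroup.index_dvd_card _
  rw [hKc] at h5
  rw [← hm]
  exact mul_dvd_mul h5' h5

/-- multiple transitivity of `T` implies that of `G` -/
theorem of_T [Finite Ω] {k : ℕ} (h : IsMultiplyPretransitive T Ω k) (hk : 3 ≤ k) (hn : k ≤ Nat.card Ω) :
    IsMultiplyPretransitive G Ω 3 := by
  have h1 : IsMultiplyPretransitive T Ω 3 := by
    have := h
    exact MulAction.isMultiplyPretransitive_of_le hk (by exact_mod_cast hn)
  refine ⟨fun s t => ?_⟩
  obtain ⟨g, hg⟩ := h1.exists_smul_eq s t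
  exact ⟨(g : G), by
    ext i
    exact congrArg (fun f : Fin 3 ↪ Ω => f i) hg⟩

theorem m24 (A : AS G Ω T) (_ : Half G Ω m) (h : Cfsg.Spor.IsoM24 T) (hn : Nat.card Ω = 24) :
    IsMultiplyPretransitive G Ω 3 := by
  have := A.finT
  have := A.finΩ
  have := A.transitive
  have h1 := H488.M24Action.five (T := T) (Ω := Ω) A.simple (NotCT.Orders.m24 h) hn
  exact of_T h1 (by norm_num) (by omega)

theorem m23 (A : AS G Ω T) (_ : Half G Ω m) (h : Cfsg.Spor.IsoM23 T) (hn : Nat.card Ω = 23) :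
    IsMultiplyPretransitive G Ω 3 := by
  have := A.finT
  have := A.finΩ
  have := A.transitive
  have h1 := H660.SporPrimeIndex.m23_four (T := T) h (Ω := Ω) hn
  exact of_T h1 (by norm_num) (by omega)

theorem m12 (A : AS G Ω T) (H : Half G Ω m) (h : Cfsg.Spor.IsoM12 T) (hn : Nat.card Ω = 12) :
    m = 1 ∨ IsMultiplyPretransitive G Ω 3 := by
  have := A.finT
  have := A.finG
  have := A.finΩ
  have := A.faithful
  have := A.nontrivialΩ
  have hc := NotCT.Orders.m12 h
  have hG := TwoSpor.card_dvd A (index_of_out h S2061.result)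
  rw [hc] at hG
  obtain ⟨a, b, hab⟩ := exists_pair_ne Ω
  have h1 := card_eq A.two hab
  rw [hn] at h1
  have h2 : T.index * 95040 = Nat.card G := by
    rw [← hc]; exact T.index_mul_card
  have hi : 0 < T.index := Nat.pos_of_ne_zero Subgroup.FiniteIndex.index_ne_zero
  set g := Nat.card (GG G a b) with hg
  have hg1 : g = 720 * T.index := by omega
  have hm := H.dvd
  rw [hn] at hm
  have h5 : 5 ≤ m := H.prime_le hab (p := 5) (by norm_num) (by rw [← hg, hg1]; exact Dvd.intro (144 * T.index) (by ring))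
  have hm10 : m ≤ 10 := Nat.le_of_dvd (by norm_num) hm
  have hm' : m = 5 ∨ m = 10 := by
    interval_cases m <;> simp_all only [_root_.Nat.add_one_sub_one, _root_.Nat.reduceMul, _root_.ne_eq, _root_.Nat.reduceSub, _root_.Nat.reduceDvd, _root_.Std.le_refl, _root_.Nat.reduceLeDiff, _root_.Nat.reduceEqDiff, _root_.or_false, _root_.dvd_refl, _root_.or_true]
  rcases hm' with rfl | rfl
  · exfalso
    have h25 := five_sq (by omega) H hab (by rw [← hg, hg1]; omega)
    have h3 : 25 ∣ 2 * 95040 := h25.trans ((Dvd.intro_left _ h1.symm).trans hG)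
    norm_num at h3
  · right
    exact H.three_of_lt (by omega) A.two (by omega)

theorem co3 (A : AS G Ω T) (H : Half G Ω m) (h : Cfsg.Spor.IsoCo3 T) (hn : Nat.card Ω = 276) : m = 1 := by
  exfalso
  have := A.finT
  have := A.finG
  have := A.finΩ
  have := A.faithful
  have := A.nontrivialΩ
  have hc := NotCT.Orders.co3 h
  have hG := TwoSpor.card_dvd A (index_of_out h S2071.result)
  rw [hc] at hG
  obtain ⟨a, b, hab⟩ := exists_pair_ne Ω
  have h1 := card_eq A.two hab
  rw [hn] at h1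
  have h2 : T.index * 495766656000 = Nat.card G := by
    rw [← hc]; exact T.index_mul_card
  have hi : 0 < T.index := Nat.pos_of_ne_zero Subgroup.FiniteIndex.index_ne_zero
  have h3 := Nat.le_of_dvd (by norm_num) hG
  set g := Nat.card (GG G a b) with hg
  have hg1 : g = 6531840 := by omega
  have hm := H.dvd
  rw [hn] at hm
  have h5 : 3 ≤ m := H.prime_le hab (p := 3) (by norm_num) (by rw [← hg, hg1]; norm_num)
  have h6 := H.dvd_GG (by omega) hab
  rw [← hg, hg1] at h6
  have h7 : m ∣ Nat.gcd 274 6531840 := Nat.dvd_gcd hm h6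
  have h8 : Nat.gcd 274 6531840 = 2 := by decide +kernel
  rw [h8] at h7
  have := Nat.le_of_dvd (by norm_num) h7
  omega

end Cfsg.Agent.H970.HalfSpor
end
end
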